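import Cfsg.Agent.Omega.SQK.Rank
import Cfsg.Prelude.Def_Classification2
import Cfsg.Agent.S0252
import Cfsg.Agent.S0254
import Cfsg.Agent.S0256

/-!
The list `SQK` of the known finite simple groups of `p`-rank at most 2 for all odd primes `p`,
and the reduction of "known + strongly quasithin ⇒ SQK" to one row for each family.
-/

set_option autoImplicit false

namespace Cfsg.Agent.Omega.SQK.Frame

open Cfsg Cfsg.Agent.Omega.SQK.Rank

/-! ### The list -/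

/-- `PSL₂(q)`, `q = 2^n ≥ 4` or `q = p`, `p²` for an odd prime `p`. -/
def L2 (X : Type*) [Group X] : Prop :=
  ∃ (F : Type) (_ : Field F) (_ : Fintype F), 4 ≤ Fintype.card F ∧
    ((∃ n, Fintype.card F = 2 ^ n) ∨
      ∃ p, p.Prime ∧ p ≠ 2 ∧ (Fintype.card F = p ∨ Fintype.card F = p ^ 2)) ∧
    Nonempty (X ≃* Matrix.ProjectiveSpecialLinearGroup (Fin 2) F)

/-- `PSL₃(q)`, `q = 2^n` or `q` an odd prime. -/
def L3 (X : Type*) [Group X] : Prop :=
  ∃ (F : Type) (_ : Field F) (_ : Fintype F),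
    ((∃ n, Fintype.card F = 2 ^ n) ∨ (Fintype.card F).Prime ∧ Fintype.card F ≠ 2) ∧
    Nonempty (X ≃* Matrix.ProjectiveSpecialLinearGroup (Fin 3) F)

/-- `PSL₄(2)` and `PSL₅(2)`. -/
def L45 (X : Type*) [Group X] : Prop :=
  ∃ (F : Type) (_ : Field F) (_ : Fintype F), Fintype.card F = 2 ∧
    (Nonempty (X ≃* Matrix.ProjectiveSpecialLinearGroup (Fin 4) F) ∨
      Nonempty (X ≃* Matrix.ProjectiveSpecialLinearGroup (Fin 5) F))

/-- `PSU₃(q)`, `q = 2^n ≥ 4` or `q` an odd prime. -/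
def U3 (X : Type*) [Group X] : Prop :=
  ∃ (F : Type) (_ : Field F) (_ : Fintype F) (q : ℕ), Fintype.card F = q ^ 2 ∧ q ≠ 2 ∧
    ((∃ n, q = 2 ^ n) ∨ q.Prime) ∧ Nonempty (X ≃* PSU 3 F q)

/-- `PSp₄(q)`, `q = 2^n ≥ 4`. -/
def Sp4 (X : Type*) [Group X] : Prop :=
  ∃ (F : Type) (_ : Field F) (_ : Fintype F) (n : ℕ), 2 ≤ n ∧ Fintype.card F = 2 ^ n ∧
    Nonempty (X ≃* PSp 2 F)

/-- `G₂(q)`, `q = 2^n ≥ 4`. -/
def G2 (X : Type*) [Group X] : Prop :=
  ∃ (F : Type) (_ : Field F) (_ : Fintype F) (n : ℕ), 2 ≤ n ∧ Fintype.card F = 2 ^ n ∧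
    Nonempty (X ≃* ↥(Lie.chevG2.group F))

/-- `³D₄(q)`, `q = 2^n`. -/
def D43 (X : Type*) [Group X] : Prop :=
  ∃ (K : Type) (_ : Field K) (_ : Fintype K) (n : ℕ), 1 ≤ n ∧ Fintype.card K = (2 ^ n) ^ 3 ∧
    Nonempty (X ≃* ↥(Lie.twistedD4 K (2 ^ n)))

/-- The ten sporadic groups in the list. -/
def Spor (X : Type*) [Group X] : Prop :=
  Spor.IsoM11 X ∨ Spor.IsoM12 X ∨ Spor.IsoM22 X ∨ Spor.IsoM23 X ∨ Spor.IsoM24 X ∨
    Spor.IsoJ1 X ∨ Spor.IsoJ2 X ∨ Spor.IsoJ4 X ∨ Spor.IsoHS X ∨ Spor.IsoHe X ∨ Spor.IsoRu X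

/-- The known simple groups of `p`-rank at most 2 for every odd prime `p`. -/
def SQK (X : Type*) [Group X] : Prop :=
  Nonempty (X ≃* alternatingGroup (Fin 7)) ∨ L2 X ∨ L3 X ∨ L45 X ∨ U3 X ∨ Sp4 X ∨ G2 X ∨ D43 X ∨
    Lie.Iso2F4 X ∨ Lie.IsoTits X ∨ Lie.IsoSuzuki X ∨ Spor X

/-! ### The rows -/

def RowAlt : Prop := ∀ n, 9 ≤ n → ¬ PRankLE 3 2 (alternatingGroup (Fin n))

def RowPSLOdd : Prop := ∀ (F : Type) [Field F] [Fintype F] (r a n : ℕ), r.Prime → r ≠ 2 →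
  Fintype.card F = r ^ a → 2 ≤ n → r ^ 2 < Fintype.card F ^ (n - 1) →
  ¬ PRankLE r 2 (Matrix.ProjectiveSpecialLinearGroup (Fin n) F)

def RowPSLTwo : Prop := ∀ (F : Type) [Field F] [Fintype F] (a n : ℕ),
  Fintype.card F = 2 ^ a → 4 ≤ n → (2 ≤ a ∨ 6 ≤ n) →
  ∃ p, p.Prime ∧ p ≠ 2 ∧ ¬ PRankLE p 2 (Matrix.ProjectiveSpecialLinearGroup (Fin n) F)

def RowPSpOdd : Prop := ∀ (F : Type) [Field F] [Fintype F] (r a m : ℕ), r.Prime → r ≠ 2 →
  Fintype.card F = r ^ a → 2 ≤ m → ¬ PRankLE r 2 (PSp m F)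

def RowPSpTwo : Prop := ∀ (F : Type) [Field F] [Fintype F] (a m : ℕ),
  Fintype.card F = 2 ^ a → 3 ≤ m → ¬ PRankLE 3 2 (PSp m F)

def RowPSUOdd : Prop := ∀ (F : Type) [Field F] [Fintype F] (q r a n : ℕ), r.Prime → r ≠ 2 →
  q = r ^ a → Fintype.card F = q ^ 2 → 3 ≤ n → (4 ≤ n ∨ 2 ≤ a) → ¬ PRankLE r 2 (PSU n F q)

def RowPSUTwo : Prop := ∀ (F : Type) [Field F] [Fintype F] (q a n : ℕ),
  q = 2 ^ a → Fintype.card F = q ^ 2 → 4 ≤ n → ∃ p, p.Prime ∧ p ≠ 2 ∧ ¬ PRankLE p 2 (PSU n F q)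

def RowOmegaOdd : Prop := ∀ (F : Type) [Field F] [Fintype F] (r a m : ℕ), r.Prime → r ≠ 2 →
  Fintype.card F = r ^ a → 3 ≤ m → ¬ PRankLE r 2 (POmega F (quadFormOdd m F))

def RowPlusOdd : Prop := ∀ (F : Type) [Field F] [Fintype F] (r a m : ℕ), r.Prime → r ≠ 2 →
  Fintype.card F = r ^ a → 4 ≤ m → ¬ PRankLE r 2 (POmega F (quadFormPlus m F))

def RowPlusTwo : Prop := ∀ (F : Type) [Field F] [Fintype F] (n m : ℕ),
  Fintype.card F = 2 ^ n → 4 ≤ m → ¬ PRankLE 3 2 (POmega F (quadFormPlus m F))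

def RowMinusOdd : Prop := ∀ (F : Type) [Field F] [Fintype F] (r n m : ℕ) (a b : F), r.Prime →
  r ≠ 2 → Fintype.card F = r ^ n → 4 ≤ m →
  (∀ z₁ z₂ : F, z₁ ^ 2 + a * z₁ * z₂ + b * z₂ ^ 2 = 0 → z₁ = 0 ∧ z₂ = 0) →
  ¬ PRankLE r 2 (POmega F (quadFormMinus (m - 1) F a b))

def RowMinusTwo : Prop := ∀ (F : Type) [Field F] [Fintype F] (n m : ℕ) (a b : F),
  Fintype.card F = 2 ^ n → 4 ≤ m →
  (∀ z₁ z₂ : F, z₁ ^ 2 + a * z₁ * z₂ + b * z₂ ^ 2 = 0 → z₁ = 0 ∧ z₂ = 0) →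
  ¬ PRankLE 3 2 (POmega F (quadFormMinus (m - 1) F a b))

def RowG2Odd : Prop := ∀ (F : Type) [Field F] [Fintype F] (r a : ℕ), r.Prime → r ≠ 2 →
  Fintype.card F = r ^ a → ¬ PRankLE r 2 ↥(Lie.chevG2.group F)

def RowChevOdd : Prop := ∀ D ∈ [Lie.chevF4, Lie.chevE6, Lie.chevE7, Lie.chevE8],
  ∀ (F : Type) [Field F] [Fintype F] (r a : ℕ), r.Prime → r ≠ 2 →
  Fintype.card F = r ^ a → ¬ PRankLE r 2 ↥(D.group F)

def RowChevTwo : Prop := ∀ D ∈ [Lie.chevF4, Lie.chevE6, Lie.chevE7, Lie.chevE8],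
  ∀ (F : Type) [Field F] [Fintype F] (a : ℕ),
  Fintype.card F = 2 ^ a → ¬ PRankLE 3 2 ↥(D.group F)

def RowE6tOdd : Prop := ∀ (K : Type) [Field K] [Fintype K] (q r a : ℕ), r.Prime → r ≠ 2 →
  q = r ^ a → Fintype.card K = q ^ 2 → ¬ PRankLE r 2 ↥(Lie.twistedE6 K q)

def RowE6tTwo : Prop := ∀ (K : Type) [Field K] [Fintype K] (q a : ℕ),
  q = 2 ^ a → Fintype.card K = q ^ 2 → ¬ PRankLE 3 2 ↥(Lie.twistedE6 K q)

def RowD4tOdd : Prop := ∀ (K : Type) [Field K] [Fintype K] (q r a : ℕ), r.Prime → r ≠ 2 →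
  q = r ^ a → Fintype.card K = q ^ 3 → ¬ PRankLE r 2 ↥(Lie.twistedD4 K q)

def RowRee : Prop := ∀ (K : Type) [Field K] [Fintype K] (m : ℕ), 1 ≤ m →
  Fintype.card K = 3 ^ (2 * m + 1) → ¬ PRankLE 3 2 ↥(Lie.twistedG2 K (3 ^ m))

/-- The fifteen sporadic groups outside the list. -/
def SporBig (X : Type*) [Group X] : Prop :=
  Spor.IsoJ3 X ∨ Spor.IsoCo1 X ∨ Spor.IsoCo2 X ∨ Spor.IsoCo3 X ∨ Spor.IsoMcL X ∨ Spor.IsoSuz X ∨
    Spor.IsoON X ∨ Spor.IsoLy X ∨ Spor.IsoFi22 X ∨ Spor.IsoFi23 X ∨ Spor.IsoFi24' X ∨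
    Spor.IsoHN X ∨ Spor.IsoTh X ∨ Spor.IsoB X ∨ Spor.IsoM X

def RowSpor.{u} : Prop := ∀ (X : Type u) [Group X] [Finite X], IsSimpleGroup X →
  ¬ IsMulCommutative X → SporBig X → ∃ p, p.Prime ∧ p ≠ 2 ∧ ¬ PRankLE p 2 X

/-- All rows. -/
structure Rows.{u} : Prop where
  alt : RowAlt
  pslOdd : RowPSLOdd
  pslTwo : RowPSLTwo
  pspOdd : RowPSpOdd
  pspTwo : RowPSpTwo
  psuOdd : RowPSUOdd
  psuTwo : RowPSUTwo
  omegaOdd : RowOmegaOdd
  plusOdd : RowPlusOdd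
  plusTwo : RowPlusTwo
  minusOdd : RowMinusOdd
  minusTwo : RowMinusTwo
  g2Odd : RowG2Odd
  chevOdd : RowChevOdd
  chevTwo : RowChevTwo
  e6tOdd : RowE6tOdd
  e6tTwo : RowE6tTwo
  d4tOdd : RowD4tOdd
  ree : RowRee
  spor : RowSpor.{u}

/-! ### The reduction -/

theorem exists_prime_pow (F : Type) [Field F] [Fintype F] :
    ∃ r a : ℕ, r.Prime ∧ 1 ≤ a ∧ Fintype.card F = r ^ a := by
  obtain ⟨r, hr⟩ := CharP.exists F
  obtain ⟨a, hp, ha⟩ := FiniteField.card F r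
  exact ⟨r, a, hp, a.pos, ha⟩

theorem eq_pow_of_sq {q r n k : ℕ} (hr : r.Prime) (hk : k ≠ 0) (h : r ^ n = q ^ k) :
    ∃ a, q = r ^ a := by
  have h1 : q ∣ r ^ n := h ▸ dvd_pow_self q hk
  obtain ⟨a, _, ha⟩ := (Nat.dvd_prime_pow hr).1 h1
  exact ⟨a, ha⟩

theorem sqk_alt {X : Type*} [Group X] (n : ℕ) (h5 : 5 ≤ n) (h9 : n < 9)
    (h : Nonempty (X ≃* alternatingGroup (Fin n))) : SQK X := by
  obtain ⟨e⟩ := h
  have : n = 5 ∨ n = 6 ∨ n = 7 ∨ n = 8 := by omega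
  rcases this with rfl | rfl | rfl | rfl
  · let _ : Fintype (GaloisField 2 2) := Fintype.ofFinite _
    have hc : Fintype.card (GaloisField 2 2) = 4 := by
      rw [← Nat.card_eq_fintype_card, GaloisField.card 2 2 (by norm_num)]; norm_num
    obtain ⟨e'⟩ := Cfsg.Agent.S0252.result (F := GaloisField 2 2) hc
    refine Or.inr (Or.inl ⟨GaloisField 2 2, inferInstance, inferInstance, by omega,
      Or.inl ⟨2, by rw [hc]; norm_num⟩, ⟨e.trans e'.symm⟩⟩)
  · have : Fact (Nat.Prime 3) := ⟨Nat.prime_three⟩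
    let _ : Fintype (GaloisField 3 2) := Fintype.ofFinite _
    have hc : Fintype.card (GaloisField 3 2) = 9 := by
      rw [← Nat.card_eq_fintype_card, GaloisField.card 3 2 (by norm_num)]; norm_num
    obtain ⟨e'⟩ := Cfsg.Agent.S0254.result (F := GaloisField 3 2) hc
    refine Or.inr (Or.inl ⟨GaloisField 3 2, inferInstance, inferInstance, by omega,
      Or.inr ⟨3, Nat.prime_three, by norm_num, Or.inr (by rw [hc]; norm_num)⟩,
      ⟨e.trans e'.symm⟩⟩)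
  · exact Or.inl ⟨e⟩
  · have hc : Fintype.card (ZMod 2) = 2 := ZMod.card 2
    obtain ⟨e'⟩ := Cfsg.Agent.S0256.result (F := ZMod 2) hc
    exact Or.inr (Or.inr (Or.inr (Or.inl ⟨ZMod 2, inferInstance, inferInstance, hc,
      Or.inl ⟨e.trans e'.symm⟩⟩)))

theorem sqk_of_known.{u} (R : Rows.{u}) {X : Type u} [Group X] [Finite X]
    (hsim : IsSimpleGroup X) (hna : ¬ IsMulCommutative X) (hK : IsKnownSimple' X)
    (hp : ∀ p, p.Prime → p ≠ 2 → PRankLE p 2 X) : SQK X := by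
  have key : ∀ {Y : Type} [Group Y] (p : ℕ), p.Prime → p ≠ 2 → Nonempty (X ≃* Y) →
      ¬ PRankLE p 2 Y → SQK X := by
    intro Y _ p h1 h2 ⟨e⟩ h3
    exact absurd (hp p h1 h2) (not_of_mulEquiv e h3)
  rcases hK with h | h | h | h | h | h | h | h | h | h
  · -- prime cyclic
    exfalso
    have : Fact (Nat.card X).Prime := ⟨h⟩
    have hc : IsCyclic X := isCyclic_of_prime_card rfl
    exact hna ⟨⟨fun a b => hc.commGroup.mul_comm a b⟩⟩
  · -- alternating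
    obtain ⟨n, h5, he⟩ := h
    rcases lt_or_ge n 9 with h9 | h9
    · exact sqk_alt n h5 h9 he
    · exact key 3 Nat.prime_three (by norm_num) he (R.alt n h9)
  · -- PSL
    obtain ⟨F, _, _, n, hn, h4, he⟩ := h
    obtain ⟨r, a, hr, ha, hF⟩ := exists_prime_pow F
    rcases eq_or_ne r 2 with rfl | hr2
    · rcases (show n = 2 ∨ n = 3 ∨ 4 ≤ n by omega) with rfl | rfl | hn4
      · exact Or.inr (Or.inl ⟨F, _, _, h4 rfl, Or.inl ⟨a, hF⟩, he⟩)
      · exact Or.inr (Or.inr (Or.inl ⟨F, _, _, Or.inl ⟨a, hF⟩, he⟩))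
      · by_cases h6 : 2 ≤ a ∨ 6 ≤ n
        · obtain ⟨p, h1, h2, h3⟩ := R.pslTwo F a n hF hn4 h6
          exact key p h1 h2 he h3
        · push Not at h6
          have ha1 : a = 1 := by omega
          subst ha1
          have hc : Fintype.card F = 2 := by rw [hF]; norm_num
          rcases (show n = 4 ∨ n = 5 by omega) with rfl | rfl
          · exact Or.inr (Or.inr (Or.inr (Or.inl ⟨F, _, _, hc, Or.inl he⟩)))
          · exact Or.inr (Or.inr (Or.inr (Or.inl ⟨F, _, _, hc, Or.inr he⟩)))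
    · have h3r : 1 < r := hr.one_lt
      by_cases hlt : r ^ 2 < Fintype.card F ^ (n - 1)
      · exact key r hr hr2 he (R.pslOdd F r a n hr hr2 hF hn hlt)
      · rw [hF, ← pow_mul, Nat.pow_lt_pow_iff_right h3r] at hlt
        rcases (show n = 2 ∨ n = 3 ∨ 4 ≤ n by omega) with rfl | rfl | hn4
        · refine Or.inr (Or.inl ⟨F, _, _, h4 rfl, Or.inr ⟨r, hr, hr2, ?_⟩, he⟩)
          rcases (show a = 1 ∨ a = 2 by omega) with rfl | rfl
          · exact Or.inl (by rw [hF, pow_one])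
          · exact Or.inr hF
        · have ha1 : a = 1 := by omega
          subst ha1
          have hc : Fintype.card F = r := by rw [hF, pow_one]
          exact Or.inr (Or.inr (Or.inl ⟨F, _, _, Or.inr ⟨hc ▸ hr, hc ▸ hr2⟩, he⟩))
        · exfalso
          apply hlt
          have : 3 ≤ n - 1 := by omega
          nlinarith
  · -- PSp
    obtain ⟨F, _, _, m, hm, h3, he⟩ := h
    obtain ⟨r, a, hr, ha, hF⟩ := exists_prime_pow F
    rcases eq_or_ne r 2 with rfl | hr2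
    · rcases (show m = 2 ∨ 3 ≤ m by omega) with rfl | hm3
      · have h3' := h3 rfl
        have ha2 : 2 ≤ a := by
          by_contra hcon
          have : a = 1 := by omega
          subst this
          omega
        exact Or.inr (Or.inr (Or.inr (Or.inr (Or.inr (Or.inl ⟨F, _, _, a, ha2, hF, he⟩)))))
      · exact key 3 Nat.prime_three (by norm_num) he (R.pspTwo F a m hF hm3)
    · exact key r hr hr2 he (R.pspOdd F r a m hr hr2 hF hm)
  · -- PSU
    obtain ⟨F, _, _, n, q, hq, hn, hn3, he⟩ := h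
    obtain ⟨r, b, hr, hb, hF⟩ := exists_prime_pow F
    obtain ⟨a, rfl⟩ := eq_pow_of_sq hr two_ne_zero (hF.symm.trans hq)
    have ha : 1 ≤ a := by
      by_contra hcon
      have : a = 0 := by omega
      subst this
      rw [pow_zero, one_pow] at hq
      have := Fintype.one_lt_card (α := F)
      omega
    rcases eq_or_ne r 2 with rfl | hr2
    · rcases (show n = 3 ∨ 4 ≤ n by omega) with rfl | hn4
      · refine Or.inr (Or.inr (Or.inr (Or.inr (Or.inl ⟨F, _, _, 2 ^ a, hq, ?_, Or.inl ⟨a, rfl⟩,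
          he⟩))))
        exact fun h => hn3 ⟨rfl, h⟩
      · obtain ⟨p, h1, h2, h3⟩ := R.psuTwo F _ a n rfl hq hn4
        exact key p h1 h2 he h3
    · by_cases h4 : 4 ≤ n ∨ 2 ≤ a
      · exact key r hr hr2 he (R.psuOdd F _ r a n hr hr2 rfl hq hn h4)
      · push Not at h4
        have ha1 : a = 1 := by omega
        have hn3' : n = 3 := by omega
        subst ha1 hn3'
        rw [pow_one] at *
        exact Or.inr (Or.inr (Or.inr (Or.inr (Or.inl ⟨F, _, _, r, hq, hr2, Or.inr hr, he⟩))))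
  · -- POmega odd
    obtain ⟨F, _, _, m, hm, hodd, he⟩ := h
    obtain ⟨r, a, hr, ha, hF⟩ := exists_prime_pow F
    have hr2 : r ≠ 2 := by
      rintro rfl
      rw [hF] at hodd
      exact (Nat.not_even_iff_odd.2 hodd) ((Nat.even_pow.2 ⟨even_two, by omega⟩))
    exact key r hr hr2 he (R.omegaOdd F r a m hr hr2 hF hm)
  · -- POmega plus
    obtain ⟨F, _, _, m, hm, he⟩ := h
    obtain ⟨r, a, hr, ha, hF⟩ := exists_prime_pow F
    rcases eq_or_ne r 2 with rfl | hr2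
    · exact key 3 Nat.prime_three (by norm_num) he (R.plusTwo F a m hF hm)
    · exact key r hr hr2 he (R.plusOdd F r a m hr hr2 hF hm)
  · -- POmega minus
    obtain ⟨F, _, _, m, b, c, hm, hani, he⟩ := h
    obtain ⟨r, a, hr, ha, hF⟩ := exists_prime_pow F
    rcases eq_or_ne r 2 with rfl | hr2
    · exact key 3 Nat.prime_three (by norm_num) he (R.minusTwo F a m b c hF hm hani)
    · exact key r hr hr2 he (R.minusOdd F r a m b c hr hr2 hF hm hani)
  · -- exceptional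
    have chev : ∀ D ∈ [Lie.chevF4, Lie.chevE6, Lie.chevE7, Lie.chevE8], D.IsGroupOver X →
        SQK X := by
      rintro D hD ⟨F, _, _, he⟩
      obtain ⟨r, a, hr, ha, hF⟩ := exists_prime_pow F
      rcases eq_or_ne r 2 with rfl | hr2
      · exact key 3 Nat.prime_three (by norm_num) he (R.chevTwo D hD F a hF)
      · exact key r hr hr2 he (R.chevOdd D hD F r a hr hr2 hF)
    rcases h with h | h | h | h | h | h | h | h | h | h | h
    · obtain ⟨F, _, _, h3, he⟩ := h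
      obtain ⟨r, a, hr, ha, hF⟩ := exists_prime_pow F
      rcases eq_or_ne r 2 with rfl | hr2
      · have ha2 : 2 ≤ a := by
          by_contra hcon
          have : a = 1 := by omega
          subst this
          omega
        exact Or.inr (Or.inr (Or.inr (Or.inr (Or.inr (Or.inr
          (Or.inl ⟨F, _, _, a, ha2, hF, he⟩))))))
      · exact key r hr hr2 he (R.g2Odd F r a hr hr2 hF)
    · exact chev _ (by simp) h
    · exact chev _ (by simp) h
    · exact chev _ (by simp) h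
    · exact chev _ (by simp) h
    · obtain ⟨K, _, _, q, hq, hc, he⟩ := h
      obtain ⟨r, a, hr, ha, hF⟩ := exists_prime_pow K
      obtain ⟨b, rfl⟩ := eq_pow_of_sq hr two_ne_zero (hF.symm.trans hc)
      rcases eq_or_ne r 2 with rfl | hr2
      · exact key 3 Nat.prime_three (by norm_num) he (R.e6tTwo K _ b rfl hc)
      · exact key r hr hr2 he (R.e6tOdd K _ r b hr hr2 rfl hc)
    · obtain ⟨K, _, _, q, hq, hc, he⟩ := h
      obtain ⟨r, a, hr, ha, hF⟩ := exists_prime_pow K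
      obtain ⟨b, rfl⟩ := eq_pow_of_sq hr three_ne_zero (hF.symm.trans hc)
      have hb : 1 ≤ b := by
        by_contra hcon
        have : b = 0 := by omega
        subst this
        exact hq.ne_one (pow_zero r)
      rcases eq_or_ne r 2 with rfl | hr2
      · exact Or.inr (Or.inr (Or.inr (Or.inr (Or.inr (Or.inr (Or.inr
          (Or.inl ⟨K, _, _, b, hb, hc, he⟩)))))))
      · exact key r hr hr2 he (R.d4tOdd K _ r b hr hr2 rfl hc)
    · exact Or.inr (Or.inr (Or.inr (Or.inr (Or.inr (Or.inr (Or.inr (Or.inr (Or.inr (Or.inr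
        (Or.inl h))))))))))
    · obtain ⟨K, _, _, m, hm, hc, he⟩ := h
      exact key 3 Nat.prime_three (by norm_num) he (R.ree K m hm hc)
    · exact Or.inr (Or.inr (Or.inr (Or.inr (Or.inr (Or.inr (Or.inr (Or.inr (Or.inl h))))))))
    · exact Or.inr (Or.inr (Or.inr (Or.inr (Or.inr (Or.inr (Or.inr (Or.inr (Or.inr
        (Or.inl h)))))))))
  · -- sporadic
    by_cases hb : SporBig X
    · obtain ⟨p, h1, h2, h3⟩ := R.spor X hsim hna hb
      exact absurd (hp p h1 h2) h3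
    · have hs : Frame.Spor X := by
        unfold SporBig at hb
        unfold Frame.Spor
        unfold IsSporadicGroup at h
        tauto
      exact Or.inr (Or.inr (Or.inr (Or.inr (Or.inr (Or.inr (Or.inr (Or.inr (Or.inr (Or.inr
        (Or.inr hs))))))))))

end Cfsg.Agent.Omega.SQK.Frame
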