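import Mathlib
import Cfsg.Prelude.Def_CaseTheorems

/-!
Lower bounds for the `p`-rank: general tools.
-/

set_option autoImplicit false

namespace Cfsg.Agent.Omega.SQK.Rank

open Cfsg

variable {G H : Type*} [Group G] [Group H]

theorem not_of_injective {p : ℕ} (f : G →* H) (hf : Function.Injective f)
    {k : ℕ} (h : ¬ PRankLE p k G) : ¬ PRankLE p k H := by
  intro hH
  refine h fun A hA hp => ?_
  have hc : IsMulCommutative (A.map f) := by
    refine ⟨⟨?_⟩⟩
    rintro ⟨_, a, ha, rfl⟩ ⟨_, b, hb, rfl⟩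
    have := hA.is_comm.comm (⟨a, ha⟩ : A) ⟨b, hb⟩
    have h2 : a * b = b * a := congrArg Subtype.val this
    apply Subtype.ext
    show f a * f b = f b * f a
    rw [← map_mul, ← map_mul, h2]
  have h1 := hH (A.map f) hc (by
    rintro _ ⟨a, ha, rfl⟩
    rw [← map_pow, hp a ha, map_one])
  rwa [Nat.card_congr (A.equivMapOfInjective f hf).toEquiv.symm] at h1

theorem not_of_mulEquiv {p : ℕ} (e : G ≃* H) {k : ℕ} (h : ¬ PRankLE p k H) : ¬ PRankLE p k G :=
  not_of_injective e.symm.toMonoidHom e.symm.injective h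

/-- An elementary abelian group `V` of order `> p ^ k` embedded in `G`. -/
theorem not_of_hom {p k : ℕ} {V : Type*} [AddCommGroup V] [Finite V] (f : Multiplicative V →* G)
    (hf : Function.Injective f) (hp : ∀ v : V, p • v = 0) (hV : p ^ k < Nat.card V) :
    ¬ PRankLE p k G := by
  refine not_of_injective f hf fun h => ?_
  have h1 := h ⊤ ⟨⟨fun a b => mul_comm a b⟩⟩ (fun a _ => by
    have := hp (Multiplicative.toAdd a)
    exact congrArg Multiplicative.ofAdd this)
  rw [Subgroup.card_top] at h1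
  exact absurd h1 (not_le.mpr hV)

/-- The same modulo a normal subgroup that meets the image trivially. -/
theorem not_quot_of_hom {p k : ℕ} {V : Type*} [AddCommGroup V] [Finite V] (Z : Subgroup G) [Z.Normal]
    (f : Multiplicative V →* G)
    (hf : ∀ v : V, f (Multiplicative.ofAdd v) ∈ Z → v = 0) (hp : ∀ v : V, p • v = 0)
    (hV : p ^ k < Nat.card V) : ¬ PRankLE p k (G ⧸ Z) := by
  refine not_of_hom ((QuotientGroup.mk' Z).comp f) ?_ hp hV
  rw [injective_iff_map_eq_one]
  intro a ha
  have h1 : f a ∈ Z := (QuotientGroup.eq_one_iff _).1 ha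
  exact hf (Multiplicative.toAdd a) h1

section comm

variable {C : Type*} [CommGroup C]

/-- Powers of an element of order dividing `p`, as a homomorphism from `ZMod p`. -/
def pw (p : ℕ) (a : C) (hp : a ^ p = 1) : ZMod p →+ Additive C :=
  ZMod.lift p ⟨zmultiplesHom (Additive C) (Additive.ofMul a), by
    show ((p : ℤ)) • Additive.ofMul a = 0
    rw [natCast_zsmul]
    exact congrArg Additive.ofMul hp⟩

theorem pw_natCast (p : ℕ) (a : C) (hp : a ^ p = 1) (n : ℕ) :
    (pw p a hp (n : ZMod p)).toMul = a ^ n := by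
  have h : pw p a hp ((n : ℤ) : ZMod p) = (n : ℤ) • Additive.ofMul a := ZMod.lift_coe _ _ _
  have h2 : ((n : ℤ) : ZMod p) = (n : ZMod p) := by push_cast; rfl
  rw [h2] at h
  rw [h, natCast_zsmul]
  rfl

end comm

/-- The subgroup generated by commuting elements. -/
def cl {ι : Type*} (a : ι → G) : Subgroup G := Subgroup.closure (Set.range a)

theorem cl_comm {ι : Type*} (a : ι → G) (hc : ∀ i j, Commute (a i) (a j)) :
    ∀ x y : cl a, x * y = y * x := by
  have h1 : cl a ≤ Subgroup.centralizer (cl a : Set G) := by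
    have h0 : cl a ≤ Subgroup.centralizer (Set.range a) := by
      rw [cl, Subgroup.closure_le]
      rintro _ ⟨i, rfl⟩
      rw [SetLike.mem_coe, Subgroup.mem_centralizer_iff]
      rintro _ ⟨j, rfl⟩
      exact (hc i j).eq.symm
    rw [cl, Subgroup.closure_le]
    rintro _ ⟨i, rfl⟩
    rw [SetLike.mem_coe, Subgroup.mem_centralizer_iff]
    intro y hy
    exact ((Subgroup.mem_centralizer_iff.1 (h0 hy)) _ ⟨i, rfl⟩).symm
  rintro ⟨x, hx⟩ ⟨y, hy⟩
  apply Subtype.ext
  exact ((Subgroup.mem_centralizer_iff.1 (h1 hx)) y hy).symm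

section three

variable {ι : Type*} [Fintype ι] (p : ℕ) (a : ι → G) (hp : ∀ i, a i ^ p = 1)
  (hc : ∀ i j, Commute (a i) (a j))

/-- The homomorphism `(ZMod p)^ι → G` given by commuting elements of order dividing `p`. -/
noncomputable def homOf : Multiplicative (ι → ZMod p) →* G :=
  letI : CommGroup (cl a) := { (inferInstance : Group (cl a)) with mul_comm := cl_comm a hc }
  (cl a).subtype.comp
    (AddMonoidHom.toMultiplicative (∑ i, (pw p (⟨a i, Subgroup.subset_closure ⟨i, rfl⟩⟩ : cl a)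
      (Subtype.ext (hp i))).comp (Pi.evalAddMonoidHom (fun _ : ι => ZMod p) i) :
        (ι → ZMod p) →+ Additive (cl a)))

theorem homOf_apply [NeZero p] (v : ι → ZMod p) :
    ∃ y : cl a, homOf p a hp hc (Multiplicative.ofAdd v) = y ∧
      letI : CommGroup (cl a) := { (inferInstance : Group (cl a)) with mul_comm := cl_comm a hc }
      y = ∏ j, (⟨a j, Subgroup.subset_closure ⟨j, rfl⟩⟩ : cl a) ^ (v j).val := by
  let : CommGroup (cl a) := { (inferInstance : Group (cl a)) with mul_comm := cl_comm a hc }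
  set b : ι → cl a := fun i => ⟨a i, Subgroup.subset_closure ⟨i, rfl⟩⟩ with hb
  have hbp : ∀ i, b i ^ p = 1 := fun i => Subtype.ext (hp i)
  have key : ∀ j, (pw p (b j) (hbp j) (v j)).toMul = b j ^ (v j).val := by
    intro j
    have := pw_natCast p (b j) (hbp j) (v j).val
    rwa [ZMod.natCast_zmod_val] at this
  refine ⟨∏ j, b j ^ (v j).val, ?_, rfl⟩
  show (((∑ j, (pw p (b j) (hbp j)).comp (Pi.evalAddMonoidHom (fun _ : ι => ZMod p) j) :
      (ι → ZMod p) →+ Additive (cl a)) v).toMul : G) = _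
  rw [AddMonoidHom.finsetSum_apply]
  have : ((∑ j, ((pw p (b j) (hbp j)).comp (Pi.evalAddMonoidHom (fun _ : ι => ZMod p) j)) v :
      Additive (cl a))).toMul = ∏ j, b j ^ (v j).val := by
    rw [toMul_sum]
    exact Finset.prod_congr rfl fun j _ => key j
  rw [this]

theorem homOf_mem [NeZero p] [DecidableEq ι] (v : ι → ZMod p) (i : ι) (K : Subgroup G)
    (hs : ∀ j, j ≠ i → a j ∈ K) (h : homOf p a hp hc (Multiplicative.ofAdd v) ∈ K) :
    a i ^ (v i).val ∈ K := by
  let : CommGroup (cl a) := { (inferInstance : Group (cl a)) with mul_comm := cl_comm a hc }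
  set b : ι → cl a := fun i => ⟨a i, Subgroup.subset_closure ⟨i, rfl⟩⟩ with hb
  obtain ⟨y, hy, h1⟩ := homOf_apply p a hp hc v
  rw [hy, h1, ← Finset.mul_prod_erase _ _ (Finset.mem_univ i), Subgroup.coe_mul] at h
  have h2 : ((∏ j ∈ Finset.univ.erase i, b j ^ (v j).val : cl a) : G) ∈ K := by
    have h3 : (∏ j ∈ Finset.univ.erase i, b j ^ (v j).val : cl a) ∈ K.subgroupOf (cl a) := by
      refine Subgroup.prod_mem _ fun j hj => Subgroup.pow_mem _ ?_ _
      rw [Subgroup.mem_subgroupOf]
      exact hs j (Finset.ne_of_mem_erase hj)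
    exact h3
  have h4 := K.mul_mem h (K.inv_mem h2)
  rw [mul_inv_cancel_right] at h4
  simpa using h4

theorem homOf_three [NeZero p] (a : Fin 3 → G) (hp : ∀ i, a i ^ p = 1)
    (hc : ∀ i j, Commute (a i) (a j)) (v : Fin 3 → ZMod p) :
    homOf p a hp hc (Multiplicative.ofAdd v) =
      a 0 ^ (v 0).val * a 1 ^ (v 1).val * a 2 ^ (v 2).val := by
  let : CommGroup (cl a) := { (inferInstance : Group (cl a)) with mul_comm := cl_comm a hc }
  obtain ⟨y, hy, h⟩ := homOf_apply p a hp hc v
  rw [hy, h, Fin.prod_univ_three]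
  simp

theorem val_eq_zero_of_mem [Fact p.Prime] {x : G} (hx : x ^ p = 1) (K : Subgroup G)
    (hs : x ∉ K) (c : ZMod p) (h : x ^ c.val ∈ K) : c = 0 := by
  by_contra hc0
  have hcop : Nat.Coprime c.val p := by
    rw [Nat.coprime_comm]
    refine (Nat.Prime.coprime_iff_not_dvd Fact.out).2 fun hd => hc0 ?_
    have := Nat.eq_zero_of_dvd_of_lt hd (ZMod.val_lt c)
    exact (ZMod.val_eq_zero c).1 this
  apply hs
  have h1 : x ^ ((c.val : ℤ) * (Nat.gcdA c.val p)) ∈ K := by
    rw [zpow_mul, zpow_natCast]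
    exact K.zpow_mem h _
  have h2 : x ^ ((c.val : ℤ) * (Nat.gcdA c.val p)) = x := by
    have h3 := Nat.gcd_eq_gcd_ab c.val p
    rw [hcop] at h3
    have h4 : (c.val : ℤ) * (Nat.gcdA c.val p) = 1 - (p : ℤ) * Nat.gcdB c.val p := by
      push_cast at h3 ⊢
      linarith
    rw [h4, zpow_sub, zpow_one, zpow_mul, zpow_natCast, hx, one_zpow, inv_one, mul_one]
  rwa [h2] at h1

include hp hc in
/-- Criterion: `a i` commuting of order `p`; `K i` is a subgroup containing `a j` for `j ≠ i` and
the normal subgroup `Z`, but not `a i`.  Then `G ⧸ Z` has `p`-rank `≥ |ι|`. -/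
theorem not_of_subgroups [Fact p.Prime] [DecidableEq ι] (K : ι → Subgroup G)
    (hs : ∀ i j, i ≠ j → a j ∈ K i) (hn : ∀ i, a i ∉ K i)
    (Z : Subgroup G) [Z.Normal] (hZ : ∀ i, Z ≤ K i) {k : ℕ} (hk : k < Fintype.card ι) :
    ¬ PRankLE p k (G ⧸ Z) := by
  have : NeZero p := ⟨(Fact.out : p.Prime).ne_zero⟩
  refine not_quot_of_hom Z (homOf p a hp hc) (fun v hv => ?_) (fun v => ?_) ?_
  · funext i
    exact val_eq_zero_of_mem p (hp i) (K i) (hn i) (v i)
      (homOf_mem p a hp hc v i (K i) (fun j hj => hs i j (Ne.symm hj)) (hZ i hv))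
  · funext i
    simp
  · rw [Nat.card_eq_fintype_card, Fintype.card_fun, ZMod.card]
    exact Nat.pow_lt_pow_right (Fact.out : p.Prime).one_lt hk

include hp hc in
/-- Criterion: `a i` commuting of order `p`, `s i` commutes with `a j` for `j ≠ i` and not with
`a i`.  Then `G`, and every quotient of `G` by a central subgroup, has `p`-rank `≥ |ι|`. -/
theorem not_of_pairs [Fact p.Prime] [DecidableEq ι] (s : ι → G)
    (hs : ∀ i j, i ≠ j → Commute (s i) (a j)) (hn : ∀ i, ¬ Commute (s i) (a i))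
    (Z : Subgroup G) [Z.Normal] (hZ : Z ≤ Subgroup.center G) {k : ℕ} (hk : k < Fintype.card ι) :
    ¬ PRankLE p k (G ⧸ Z) := by
  refine not_of_subgroups p a hp hc (fun i => Subgroup.centralizer ({s i} : Set G)) ?_ ?_ Z ?_ hk
  · intro i j hij
    rw [Subgroup.mem_centralizer_singleton_iff]
    exact (hs i j hij).eq.symm
  · intro i h
    rw [Subgroup.mem_centralizer_singleton_iff] at h
    exact hn i (Commute.symm h)
  · intro i z hz
    rw [Subgroup.mem_centralizer_singleton_iff]
    exact ((Subgroup.mem_center_iff.1 (hZ hz)) (s i)).symm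

include hp hc in
/-- The criterion with the separating elements in a bigger group. -/
theorem not_of_pairs' [Fact p.Prime] [DecidableEq ι] (φ : G →* H) (s : ι → H)
    (hs : ∀ i j, i ≠ j → Commute (s i) (φ (a j))) (hn : ∀ i, ¬ Commute (s i) (φ (a i)))
    {k : ℕ} (hk : k < Fintype.card ι) : ¬ PRankLE p k G := by
  have h : ¬ PRankLE p k (G ⧸ (⊥ : Subgroup G)) := by
    refine not_of_subgroups p a hp hc
      (fun i => (Subgroup.centralizer ({s i} : Set H)).comap φ) ?_ ?_ ⊥ (fun i => bot_le) hk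
    · intro i j hij
      rw [Subgroup.mem_comap, Subgroup.mem_centralizer_singleton_iff]
      exact (hs i j hij).eq.symm
    · intro i h
      rw [Subgroup.mem_comap, Subgroup.mem_centralizer_singleton_iff] at h
      exact hn i (Commute.symm h)
  exact not_of_mulEquiv QuotientGroup.quotientBot.symm h

end three

end Cfsg.Agent.Omega.SQK.Rank
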