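import Mathlib
import Cfsg.Prelude.Def_CaseTheorems

/-!
# Three independent commuting elements of order `p`
-/

set_option autoImplicit false

namespace Cfsg.Agent.Omega.SQK.Cls

open Cfsg Subgroup

theorem zaux {H : Type*} [Group H] {p : ℕ} (x : H) (hx : x ^ p = 1) :
    zmultiplesHom (Additive H) (Additive.ofMul x) (p : ℤ) = 0 := by
  change ((p : ℤ) • Additive.ofMul x) = 0
  rw [natCast_zsmul, ← ofMul_pow, hx]; rfl

/-- the homomorphism `Z/p → H` given by an element with `x ^ p = 1` -/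
def zhom {H : Type*} [Group H] {p : ℕ} (x : H) (hx : x ^ p = 1) : Multiplicative (ZMod p) →* H :=
  AddMonoidHom.toMultiplicativeLeft (ZMod.lift p ⟨zmultiplesHom (Additive H) (Additive.ofMul x), zaux x hx⟩)

theorem zhom_apply {H : Type*} [Group H] {p : ℕ} (x : H) (hx : x ^ p = 1) (n : ℕ) :
    zhom x hx (Multiplicative.ofAdd (n : ZMod p)) = x ^ n := by
  have h1 : ZMod.lift p ⟨zmultiplesHom (Additive H) (Additive.ofMul x), zaux x hx⟩ ((n : ℤ) : ZMod p)
      = (n : ℤ) • Additive.ofMul x := ZMod.lift_coe _ _ _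
  have h2 : ((n : ℤ) : ZMod p) = (n : ZMod p) := Int.cast_natCast n
  have h3 : (n : ℤ) • Additive.ofMul x = Additive.ofMul (x ^ n) := by rw [natCast_zsmul, ofMul_pow]
  rw [h2, h3] at h1
  exact h1

/-- three commuting elements of order `p`, independent modulo `N` -/
theorem not_prankLE_of_three {H : Type*} [Group H] (N : Subgroup H) [N.Normal] {p : ℕ} (hp : 1 < p) {x y z : H}
    (hx : x ^ p = 1) (hy : y ^ p = 1) (hz : z ^ p = 1) (hxy : Commute x y) (hxz : Commute x z) (hyz : Commute y z)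
    (h : ∀ a b c : ℕ, a < p → b < p → c < p → x ^ a * y ^ b * z ^ c ∈ N → a = 0 ∧ b = 0 ∧ c = 0) :
    ¬ PRankLE p 2 (H ⧸ N) := by
  intro hr
  have : NeZero p := ⟨by omega⟩
  have hev : ∀ (x : H) (hx : x ^ p = 1) (a : Multiplicative (ZMod p)), zhom x hx a = x ^ (a.toAdd.val) := by
    intro x hx a
    rw [← zhom_apply x hx, ZMod.natCast_zmod_val]; rfl
  -- the homomorphism from `(Z/p)^3`
  let f1 : Multiplicative (ZMod p) × Multiplicative (ZMod p) →* H :=
    (zhom x hx).noncommCoprod (zhom y hy) (fun a b => by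
      rw [hev, hev]; exact hxy.pow_pow _ _)
  let f : (Multiplicative (ZMod p) × Multiplicative (ZMod p)) × Multiplicative (ZMod p) →* H :=
    f1.noncommCoprod (zhom z hz) (fun a b => by
      change Commute (zhom x hx a.1 * zhom y hy a.2) (zhom z hz b)
      rw [hev, hev, hev]
      exact (hxz.pow_pow _ _).mul_left (hyz.pow_pow _ _))
  have hf : ∀ v, f v = x ^ v.1.1.toAdd.val * y ^ v.1.2.toAdd.val * z ^ v.2.toAdd.val := by
    intro v
    change zhom x hx v.1.1 * zhom y hy v.1.2 * zhom z hz v.2 = _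
    rw [hev, hev, hev]
  let g := (QuotientGroup.mk' N).comp f
  have hg : Function.Injective g := by
    rw [injective_iff_map_eq_one]
    intro v hv
    have h1 : f v ∈ N := (QuotientGroup.eq_one_iff (f v)).1 hv
    rw [hf] at h1
    obtain ⟨h2, h3, h4⟩ := h _ _ _ (ZMod.val_lt _) (ZMod.val_lt _) (ZMod.val_lt _) h1
    rw [ZMod.val_eq_zero] at h2 h3 h4
    ext <;> assumption
  have hpow : ∀ v : (Multiplicative (ZMod p) × Multiplicative (ZMod p)) × Multiplicative (ZMod p), v ^ p = 1 := by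
    have h1 : ∀ a : Multiplicative (ZMod p), a ^ p = 1 := by
      intro a
      have h2 : p • a.toAdd = 0 := by rw [nsmul_eq_mul, ZMod.natCast_self, zero_mul]
      exact h2
    intro v
    ext
    · exact h1 _
    · exact h1 _
    · exact h1 _
  have h1 := hr g.range ⟨⟨by
    rintro ⟨_, a, rfl⟩ ⟨_, b, rfl⟩
    apply Subtype.ext
    change g a * g b = g b * g a
    rw [← map_mul, ← map_mul, mul_comm]⟩⟩ (by
    rintro _ ⟨a, rfl⟩
    rw [← map_pow, hpow, map_one])
  have h2 : Nat.card g.range = p ^ 3 := by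
    rw [Nat.card_congr (MonoidHom.ofInjective hg).symm.toEquiv, Nat.card_prod, Nat.card_prod]
    have h3 : Nat.card (Multiplicative (ZMod p)) = p := by
      rw [Nat.card_congr Multiplicative.toAdd, Nat.card_zmod]
    rw [h3]; ring
  rw [h2] at h1
  have h3 : p ^ 2 < p ^ 3 := Nat.pow_lt_pow_right hp (by norm_num)
  omega

theorem prankLE_of_equiv {G H : Type*} [Group G] [Group H] {p k : ℕ} (e : G ≃* H) (h : PRankLE p k G) :
    PRankLE p k H := by
  intro A hA hp
  have hc : ∀ a ∈ A, ∀ b ∈ A, a * b = b * a := fun a ha b hb => by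
    have := hA.is_comm.comm (⟨a, ha⟩ : A) ⟨b, hb⟩
    exact congrArg Subtype.val this
  have h1 := h (A.map e.symm.toMonoidHom) ⟨⟨by
    rintro ⟨_, x, hx, rfl⟩ ⟨_, y, hy, rfl⟩
    apply Subtype.ext
    change e.symm x * e.symm y = e.symm y * e.symm x
    rw [← map_mul, ← map_mul, hc x hx y hy]⟩⟩ (by
    rintro _ ⟨x, hx, rfl⟩
    change (e.symm x) ^ p = 1
    rw [← map_pow, hp x hx, map_one])
  rwa [Subgroup.card_map_of_injective e.symm.injective] at h1

theorem not_prankLE_of_three' {H : Type*} [Group H] {p : ℕ} (hp : 1 < p) {x y z : H}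
    (hx : x ^ p = 1) (hy : y ^ p = 1) (hz : z ^ p = 1) (hxy : Commute x y) (hxz : Commute x z) (hyz : Commute y z)
    (h : ∀ a b c : ℕ, a < p → b < p → c < p → x ^ a * y ^ b * z ^ c = 1 → a = 0 ∧ b = 0 ∧ c = 0) :
    ¬ PRankLE p 2 H := by
  intro hr
  refine not_prankLE_of_three (⊥ : Subgroup H) hp hx hy hz hxy hxz hyz (fun a b c ha hb hc h1 =>
    h a b c ha hb hc (mem_bot.1 h1)) ?_
  exact prankLE_of_equiv (QuotientGroup.quotientBot (G := H)).symm hr

end Cfsg.Agent.Omega.SQK.Cls
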