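import Mathlib
import Cfsg.Agent.Omega.SQK.ClsTool

/-!
# `m_3(A_n) ≥ 3` for `n ≥ 9`
-/

set_option autoImplicit false

namespace Cfsg.Agent.Omega.SQK.Cls

open Cfsg Subgroup Equiv

namespace Alt

def x9 : Perm (Fin 9) := swap 0 1 * swap 1 2
def y9 : Perm (Fin 9) := swap 3 4 * swap 4 5
def z9 : Perm (Fin 9) := swap 6 7 * swap 7 8

theorem x3 : x9 ^ 3 = 1 := by decide +kernel
theorem y3 : y9 ^ 3 = 1 := by decide +kernel
theorem z3 : z9 ^ 3 = 1 := by decide +kernel
theorem xy : x9 * y9 = y9 * x9 := by decide +kernel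
theorem xz : x9 * z9 = z9 * x9 := by decide +kernel
theorem yz : y9 * z9 = z9 * y9 := by decide +kernel
theorem sx : Perm.sign x9 = 1 := by decide +kernel
theorem sy : Perm.sign y9 = 1 := by decide +kernel
theorem sz : Perm.sign z9 = 1 := by decide +kernel

theorem ind : ∀ a : Fin 3, ∀ b : Fin 3, ∀ c : Fin 3, x9 ^ (a : ℕ) * y9 ^ (b : ℕ) * z9 ^ (c : ℕ) = 1 →
    a = 0 ∧ b = 0 ∧ c = 0 := by decide +kernel

/-- the embedding `S_9 → S_n` -/
noncomputable def emb {n : ℕ} (h : 9 ≤ n) : Perm (Fin 9) →* Perm (Fin n) :=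
  Perm.extendDomainHom (Equiv.ofInjective (Fin.castLE h) (Fin.castLE_injective h))

theorem emb_inj {n : ℕ} (h : 9 ≤ n) : Function.Injective (emb h) := Perm.extendDomainHom_injective _

theorem sign_emb {n : ℕ} (h : 9 ≤ n) (g : Perm (Fin 9)) : Perm.sign (emb h g) = Perm.sign g :=
  Perm.sign_extendDomain _ _

end Alt

open Alt in
theorem alt {n : ℕ} (h : 9 ≤ n) : ¬ PRankLE 3 2 (alternatingGroup (Fin n)) := by
  have hs : ∀ g : Perm (Fin 9), Perm.sign g = 1 → emb h g ∈ alternatingGroup (Fin n) := fun g hg => by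
    rw [Perm.mem_alternatingGroup, sign_emb, hg]
  refine not_prankLE_of_three' (by norm_num) (x := ⟨emb h x9, hs _ sx⟩) (y := ⟨emb h y9, hs _ sy⟩)
    (z := ⟨emb h z9, hs _ sz⟩) ?_ ?_ ?_ ?_ ?_ ?_ ?_
  · apply Subtype.ext
    change emb h x9 ^ 3 = 1
    rw [← map_pow, x3, map_one]
  · apply Subtype.ext
    change emb h y9 ^ 3 = 1
    rw [← map_pow, y3, map_one]
  · apply Subtype.ext
    change emb h z9 ^ 3 = 1
    rw [← map_pow, z3, map_one]
  · apply Subtype.ext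
    change emb h x9 * emb h y9 = emb h y9 * emb h x9
    rw [← map_mul, ← map_mul, xy]
  · apply Subtype.ext
    change emb h x9 * emb h z9 = emb h z9 * emb h x9
    rw [← map_mul, ← map_mul, xz]
  · apply Subtype.ext
    change emb h y9 * emb h z9 = emb h z9 * emb h y9
    rw [← map_mul, ← map_mul, yz]
  · intro a b c ha hb hc h1
    have h2 : emb h x9 ^ a * emb h y9 ^ b * emb h z9 ^ c = 1 := congrArg Subtype.val h1
    rw [← map_pow, ← map_pow, ← map_pow, ← map_mul, ← map_mul] at h2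
    have h3 := emb_inj h (h2.trans (map_one _).symm)
    obtain ⟨h4, h5, h6⟩ := ind ⟨a, ha⟩ ⟨b, hb⟩ ⟨c, hc⟩ h3
    exact ⟨congrArg Fin.val h4, congrArg Fin.val h5, congrArg Fin.val h6⟩

end Cfsg.Agent.Omega.SQK.Cls
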