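import Mathlib
import Cfsg.Agent.Omega.SQK.ClsTool

/-!
# `m_3(L_n(F)) ≥ 3` for `n ≥ 6`; `m_p(L_n(q)) ≥ 3` for `n ≥ 4`, `p ∣ q - 1` odd
-/

set_option autoImplicit false

namespace Cfsg.Agent.Omega.SQK.Cls

open Cfsg Subgroup Matrix

variable {F : Type*} [Field F]

/-- an element of order 3 of `SL(2, F)` -/
def M3 (F : Type*) [Field F] : Matrix.SpecialLinearGroup (Fin 2) F := ⟨!![0, -1; 1, -1], by simp [det_fin_two]⟩

theorem M3_cube : M3 F ^ 3 = 1 := by
  apply Subtype.ext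
  rw [Matrix.SpecialLinearGroup.coe_pow, Matrix.SpecialLinearGroup.coe_one, pow_succ, pow_two]
  change !![(0 : F), -1; 1, -1] * !![0, -1; 1, -1] * !![0, -1; 1, -1] = 1
  rw [Matrix.mul_fin_two, Matrix.mul_fin_two, Matrix.one_fin_two]
  norm_num

theorem M3_off {a : ℕ} (ha : a < 3)
    (h : ((M3 F ^ a : Matrix.SpecialLinearGroup (Fin 2) F) : Matrix (Fin 2) (Fin 2) F) 0 1 = 0) : a = 0 := by
  interval_cases a
  · rfl
  · exfalso
    rw [pow_one] at h
    change (-1 : F) = 0 at h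
    simp at h
  · exfalso
    rw [Matrix.SpecialLinearGroup.coe_pow, pow_two] at h
    change ((!![(0 : F), -1; 1, -1] * !![(0 : F), -1; 1, -1] : Matrix (Fin 2) (Fin 2) F)) 0 1 = 0 at h
    rw [Matrix.mul_fin_two] at h
    simp at h

namespace Lin

/-- the index type -/
def eqv {n : ℕ} (h : 6 ≤ n) : (Fin 2 × Fin 3) ⊕ Fin (n - 6) ≃ Fin n :=
  (Equiv.sumCongr (finProdFinEquiv (m := 2) (n := 3)) (Equiv.refl _)).trans
    (finSumFinEquiv.trans (finCongr (by omega)))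

/-- three diagonal blocks -/
def blk {n : ℕ} (h : 6 ≤ n) : (Fin 3 → Matrix.SpecialLinearGroup (Fin 2) F) →* Matrix.SpecialLinearGroup (Fin n) F where
  toFun g := ⟨(fromBlocks (blockDiagonal (fun i => (g i : Matrix (Fin 2) (Fin 2) F))) 0 0
      (1 : Matrix (Fin (n - 6)) (Fin (n - 6)) F)).submatrix (eqv h).symm (eqv h).symm, by
    rw [det_submatrix_equiv_self, det_fromBlocks_zero₂₁, det_blockDiagonal, det_one, mul_one]
    exact Finset.prod_eq_one fun i _ => (g i).2⟩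
  map_one' := by
    apply Subtype.ext
    have h1 : (fun i => (((1 : Fin 3 → Matrix.SpecialLinearGroup (Fin 2) F) i : Matrix.SpecialLinearGroup (Fin 2) F) :
        Matrix (Fin 2) (Fin 2) F)) = 1 := by
      funext i; rfl
    change (fromBlocks (blockDiagonal (fun i => (((1 : Fin 3 → Matrix.SpecialLinearGroup (Fin 2) F) i :
      Matrix.SpecialLinearGroup (Fin 2) F) : Matrix (Fin 2) (Fin 2) F))) 0 0 1).submatrix _ _ = 1
    rw [h1, blockDiagonal_one, fromBlocks_one, submatrix_one_equiv]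
  map_mul' g g' := by
    apply Subtype.ext
    change (fromBlocks (blockDiagonal (fun i => ((g i : Matrix (Fin 2) (Fin 2) F) * (g' i : Matrix (Fin 2) (Fin 2) F)))) 0 0 1).submatrix
      _ _ = (fromBlocks (blockDiagonal (fun i => (g i : Matrix (Fin 2) (Fin 2) F))) 0 0 1).submatrix _ _ *
      (fromBlocks (blockDiagonal (fun i => (g' i : Matrix (Fin 2) (Fin 2) F))) 0 0 1).submatrix _ _
    rw [submatrix_mul_equiv, fromBlocks_multiply, blockDiagonal_mul]
    simp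

theorem blk_apply {n : ℕ} (h : 6 ≤ n) (g : Fin 3 → Matrix.SpecialLinearGroup (Fin 2) F) (i : Fin 3) :
    (blk h g : Matrix (Fin n) (Fin n) F) (eqv h (Sum.inl (0, i))) (eqv h (Sum.inl (1, i)))
      = (g i : Matrix (Fin 2) (Fin 2) F) 0 1 := by
  change (fromBlocks (blockDiagonal (fun i => (g i : Matrix (Fin 2) (Fin 2) F))) 0 0
      (1 : Matrix (Fin (n - 6)) (Fin (n - 6)) F)).submatrix (eqv h).symm (eqv h).symm _ _ = _
  rw [submatrix_apply, Equiv.symm_apply_apply, Equiv.symm_apply_apply, fromBlocks_apply₁₁, blockDiagonal_apply_eq]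

end Lin

open Lin in
theorem psl_six {n : ℕ} (h : 6 ≤ n) : ¬ PRankLE 3 2 (Matrix.ProjectiveSpecialLinearGroup (Fin n) F) := by
  let e : Fin 3 → Fin 3 → Matrix.SpecialLinearGroup (Fin 2) F := fun i => Pi.mulSingle i (M3 F)
  have he : ∀ i, (e i) ^ 3 = 1 := by
    intro i
    change (Pi.mulSingle i (M3 F) : Fin 3 → Matrix.SpecialLinearGroup (Fin 2) F) ^ 3 = 1
    rw [← Pi.mulSingle_pow, M3_cube, Pi.mulSingle_one]
  have hc : ∀ i j, i ≠ j → Commute (e i) (e j) := fun i j hij => Pi.mulSingle_commute hij _ _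
  refine not_prankLE_of_three (Subgroup.center (Matrix.SpecialLinearGroup (Fin n) F)) (by norm_num) (x := blk h (e 0))
    (y := blk h (e 1)) (z := blk h (e 2)) ?_ ?_ ?_ ?_ ?_ ?_ ?_
  · rw [← map_pow, he, map_one]
  · rw [← map_pow, he, map_one]
  · rw [← map_pow, he, map_one]
  · exact (hc 0 1 (by decide)).map (blk h)
  · exact (hc 0 2 (by decide)).map (blk h)
  · exact (hc 1 2 (by decide)).map (blk h)
  · intro a b c ha hb hc' h1
    rw [← map_pow, ← map_pow, ← map_pow, ← map_mul, ← map_mul, Matrix.SpecialLinearGroup.mem_center_iff] at h1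
    obtain ⟨r, -, hr⟩ := h1
    have h2 : ∀ i : Fin 3, ((e 0 ^ a * e 1 ^ b * e 2 ^ c) i : Matrix (Fin 2) (Fin 2) F) 0 1 = 0 := by
      intro i
      rw [← blk_apply h, ← hr, scalar_apply, diagonal_apply_ne]
      intro h3
      have h4 := (eqv h).injective h3
      simp at h4
    have e00 : ((e 0 ^ a * e 1 ^ b * e 2 ^ c) 0) = M3 F ^ a := by
      simp [e, Pi.mul_apply, Pi.pow_apply, Pi.mulSingle_apply]
    have e11 : ((e 0 ^ a * e 1 ^ b * e 2 ^ c) 1) = M3 F ^ b := by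
      simp [e, Pi.mul_apply, Pi.pow_apply, Pi.mulSingle_apply]
    have e22 : ((e 0 ^ a * e 1 ^ b * e 2 ^ c) 2) = M3 F ^ c := by
      simp [e, Pi.mul_apply, Pi.pow_apply, Pi.mulSingle_apply]
    refine ⟨M3_off (F := F) ha ?_, M3_off (F := F) hb ?_, M3_off (F := F) hc' ?_⟩
    · rw [← e00]; exact h2 0
    · rw [← e11]; exact h2 1
    · rw [← e22]; exact h2 2

/-! ### diagonal tori -/

namespace Diag

variable {n : ℕ}

/-- a diagonal matrix of determinant 1 -/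
def dg (t : Fin n → F) (ht : ∏ i, t i = 1) : Matrix.SpecialLinearGroup (Fin n) F := ⟨diagonal t, by rw [det_diagonal, ht]⟩

/-- the entries `ζ^a, ζ^b, ζ^c, ζ^-(a+b+c), 1, ..., 1` -/
def ent (hn : 4 ≤ n) (ζ : Fˣ) (a b c : ℤ) (i : Fin n) : F :=
  if i = ⟨0, by omega⟩ then ((ζ ^ a : Fˣ) : F) else if i = ⟨1, by omega⟩ then ((ζ ^ b : Fˣ) : F)
  else if i = ⟨2, by omega⟩ then ((ζ ^ c : Fˣ) : F)
  else if i = ⟨3, by omega⟩ then ((ζ ^ (-(a + b + c)) : Fˣ) : F) else 1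

theorem ent_prod (hn : 4 ≤ n) (ζ : Fˣ) (a b c : ℤ) : ∏ i, ent hn ζ a b c i = 1 := by
  obtain ⟨m, rfl⟩ : ∃ m, n = m + 4 := ⟨n - 4, by omega⟩
  rw [Fin.prod_univ_succ, Fin.prod_univ_succ, Fin.prod_univ_succ, Fin.prod_univ_succ]
  have hv : ∀ (i : Fin (m + 4)) (k : ℕ) (hk : k < m + 4), i = ⟨k, hk⟩ ↔ (i : ℕ) = k := fun i k hk => Fin.ext_iff
  have e1 : ((Fin.succ 0 : Fin (m + 4)) : ℕ) = 1 := rfl
  have e2 : ((Fin.succ (Fin.succ 0) : Fin (m + 4)) : ℕ) = 2 := rfl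
  have e3 : ((Fin.succ (Fin.succ (Fin.succ 0)) : Fin (m + 4)) : ℕ) = 3 := rfl
  have h0 : ent hn ζ a b c 0 = ((ζ ^ a : Fˣ) : F) := by
    rw [ent, if_pos (by rfl)]
  have h1 : ent hn ζ a b c (Fin.succ 0) = ((ζ ^ b : Fˣ) : F) := by
    rw [ent, if_neg (by rw [hv, e1]; norm_num), if_pos (by rw [hv, e1])]
  have h2 : ent hn ζ a b c (Fin.succ (Fin.succ 0)) = ((ζ ^ c : Fˣ) : F) := by
    rw [ent, if_neg (by rw [hv, e2]; norm_num), if_neg (by rw [hv, e2]; norm_num), if_pos (by rw [hv, e2])]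
  have h3 : ent hn ζ a b c (Fin.succ (Fin.succ (Fin.succ 0))) = ((ζ ^ (-(a + b + c)) : Fˣ) : F) := by
    rw [ent, if_neg (by rw [hv, e3]; norm_num), if_neg (by rw [hv, e3]; norm_num), if_neg (by rw [hv, e3]; norm_num),
      if_pos (by rw [hv, e3])]
  have h4 : ∀ i : Fin m, ent hn ζ a b c i.succ.succ.succ.succ = 1 := by
    intro i
    have e4 : ((i.succ.succ.succ.succ : Fin (m + 4)) : ℕ) = i + 4 := by simp
    rw [ent, if_neg (by rw [hv, e4]; omega), if_neg (by rw [hv, e4]; omega), if_neg (by rw [hv, e4]; omega),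
      if_neg (by rw [hv, e4]; omega)]
  rw [h0, h1, h2, h3, Finset.prod_congr rfl (fun i _ => h4 i), Finset.prod_const_one, mul_one, ← Units.val_mul,
    ← Units.val_mul, ← Units.val_mul, ← _root_.zpow_add, ← _root_.zpow_add, ← _root_.zpow_add]
  rw [show a + (b + (c + -(a + b + c))) = 0 by ring, _root_.zpow_zero, Units.val_one]

theorem ent_mul (hn : 4 ≤ n) (ζ : Fˣ) (a b c a' b' c' : ℤ) (i : Fin n) :
    ent hn ζ a b c i * ent hn ζ a' b' c' i = ent hn ζ (a + a') (b + b') (c + c') i := by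
  unfold ent
  split_ifs
  · rw [← Units.val_mul, ← _root_.zpow_add]
  · rw [← Units.val_mul, ← _root_.zpow_add]
  · rw [← Units.val_mul, ← _root_.zpow_add]
  · rw [← Units.val_mul, ← _root_.zpow_add]
    congr 2; ring
  · rw [mul_one]

/-- `diag(ζ^a, ζ^b, ζ^c, ζ^-(a+b+c), 1, ..., 1)` -/
def D (hn : 4 ≤ n) (ζ : Fˣ) (a b c : ℤ) : Matrix.SpecialLinearGroup (Fin n) F := dg (ent hn ζ a b c) (ent_prod hn ζ a b c)

theorem D_mul (hn : 4 ≤ n) (ζ : Fˣ) (a b c a' b' c' : ℤ) :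
    D hn ζ a b c * D hn ζ a' b' c' = D hn ζ (a + a') (b + b') (c + c') := by
  apply Subtype.ext
  change diagonal _ * diagonal _ = diagonal _
  rw [diagonal_mul_diagonal]
  congr 1
  funext i
  exact ent_mul hn ζ a b c a' b' c' i

theorem D_zero (hn : 4 ≤ n) (ζ : Fˣ) : D hn ζ 0 0 0 = 1 := by
  apply Subtype.ext
  change diagonal _ = 1
  rw [← diagonal_one]
  congr 1
  funext i
  unfold ent
  simp

theorem D_pow (hn : 4 ≤ n) (ζ : Fˣ) (a b c : ℤ) (k : ℕ) : D hn ζ a b c ^ k = D hn ζ (k * a) (k * b) (k * c) := by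
  induction k with
  | zero => simp [D_zero]
  | succ k ih =>
    rw [pow_succ, ih, D_mul]
    push_cast
    congr 1 <;> ring

theorem D_comm (hn : 4 ≤ n) (ζ : Fˣ) (a b c a' b' c' : ℤ) : Commute (D hn ζ a b c) (D hn ζ a' b' c') := by
  change _ * _ = _ * _
  rw [D_mul, D_mul, add_comm a, add_comm b, add_comm c]

theorem D_exp (hn : 4 ≤ n) {ζ : Fˣ} {p : ℕ} (hζ : ζ ^ p = 1) (a b c : ℤ) : D hn ζ a b c ^ p = 1 := by
  have h1 : ∀ x : ℤ, ζ ^ ((p : ℤ) * x) = 1 := by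
    intro x
    rw [_root_.zpow_mul, zpow_natCast, hζ, _root_.one_zpow]
  rw [D_pow]
  apply Subtype.ext
  change diagonal _ = 1
  rw [← diagonal_one]
  congr 1
  funext i
  unfold ent
  rw [h1, h1, h1, show -((p : ℤ) * a + p * b + p * c) = p * (-(a + b + c)) by ring, h1]
  simp

/-- a scalar `D a b c` is trivial -/
theorem D_scalar (hn : 4 ≤ n) {ζ : Fˣ} {p : ℕ} (hp : p.Prime) (hp2 : p ≠ 2) (hζ : orderOf ζ = p) {a b c : ℕ}
    (ha : a < p) (hb : b < p) (hc : c < p) {r : F}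
    (h : ∀ i, (D hn ζ a b c : Matrix (Fin n) (Fin n) F) i i = r) : a = 0 ∧ b = 0 ∧ c = 0 := by
  have g : ∀ i, ent hn ζ a b c i = r := by
    intro i
    rw [← h i]
    change _ = diagonal _ i i
    rw [diagonal_apply_eq]
  have h0 := g ⟨0, by omega⟩
  have h1 := g ⟨1, by omega⟩
  have h2 := g ⟨2, by omega⟩
  have h3 := g ⟨3, by omega⟩
  rw [ent, if_pos rfl] at h0
  rw [ent, if_neg (by simp [Fin.ext_iff]), if_pos rfl] at h1
  rw [ent, if_neg (by simp [Fin.ext_iff]), if_neg (by simp [Fin.ext_iff]), if_pos rfl] at h2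
  rw [ent, if_neg (by simp [Fin.ext_iff]), if_neg (by simp [Fin.ext_iff]), if_neg (by simp [Fin.ext_iff]),
    if_pos rfl] at h3
  have k1 : ζ ^ a = ζ ^ b := by
    apply Units.ext
    have := h0.trans h1.symm
    rwa [zpow_natCast, zpow_natCast] at this
  have k2 : ζ ^ a = ζ ^ c := by
    apply Units.ext
    have := h0.trans h2.symm
    rwa [zpow_natCast, zpow_natCast] at this
  have k3 : ζ ^ (a : ℤ) = ζ ^ (-((a : ℤ) + b + c)) := by
    apply Units.ext
    exact h0.trans h3.symm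
  have l1 : a = b := pow_injOn_Iio_orderOf (by simpa [hζ] using ha) (by simpa [hζ] using hb) k1
  have l2 : a = c := pow_injOn_Iio_orderOf (by simpa [hζ] using ha) (by simpa [hζ] using hc) k2
  subst l1
  subst l2
  have k4 : ζ ^ (4 * a) = 1 := by
    have h4 : ζ ^ ((4 * a : ℕ) : ℤ) = 1 := by
      have h5 : ((4 * a : ℕ) : ℤ) = (a : ℤ) + (a + a + a) := by push_cast; ring
      rw [h5, _root_.zpow_add, k3, ← _root_.zpow_add, neg_add_cancel, _root_.zpow_zero]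
    rwa [zpow_natCast] at h4
  have k5 : p ∣ 4 * a := by rw [← hζ]; exact orderOf_dvd_of_pow_eq_one k4
  have k6 : ¬ p ∣ 4 := by
    intro h6
    have h7 : p ∣ 2 ^ 2 := by norm_num; exact h6
    exact hp2 ((Nat.prime_dvd_prime_iff_eq hp Nat.prime_two).1 (hp.dvd_of_dvd_pow h7))
  have k7 : p ∣ a := (hp.dvd_mul.1 k5).resolve_left k6
  have k8 : a = 0 := by
    by_contra h8
    exact absurd (Nat.le_of_dvd (Nat.pos_of_ne_zero h8) k7) (by omega)
  exact ⟨k8, k8, k8⟩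

theorem D_combine (hn : 4 ≤ n) (ζ : Fˣ) (a b c : ℕ) :
    D hn ζ 1 0 0 ^ a * D hn ζ 0 1 0 ^ b * D hn ζ 0 0 1 ^ c = D hn ζ a b c := by
  rw [D_pow, D_pow, D_pow, D_mul, D_mul]
  simp

theorem exists_unit [Fintype F] {p : ℕ} [Fact p.Prime] (h : p ∣ Fintype.card F - 1) : ∃ ζ : Fˣ, orderOf ζ = p := by
  classical
  apply exists_prime_orderOf_dvd_card
  rwa [Fintype.card_units]

end Diag

open Diag in
theorem psl_of [Fintype F] {n : ℕ} (hn : 4 ≤ n) {p : ℕ} (hp : p.Prime) (hp2 : p ≠ 2) (hd : p ∣ Fintype.card F - 1) :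
    ¬ PRankLE p 2 (Matrix.ProjectiveSpecialLinearGroup (Fin n) F) := by
  have : Fact p.Prime := ⟨hp⟩
  obtain ⟨ζ, hζ⟩ := exists_unit (F := F) hd
  have hζp : ζ ^ p = 1 := by rw [← hζ]; exact pow_orderOf_eq_one ζ
  refine not_prankLE_of_three (Subgroup.center (Matrix.SpecialLinearGroup (Fin n) F)) hp.one_lt (x := D hn ζ 1 0 0)
    (y := D hn ζ 0 1 0) (z := D hn ζ 0 0 1) (D_exp hn hζp _ _ _) (D_exp hn hζp _ _ _) (D_exp hn hζp _ _ _)
    (D_comm hn ζ _ _ _ _ _ _) (D_comm hn ζ _ _ _ _ _ _) (D_comm hn ζ _ _ _ _ _ _) ?_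
  intro a b c ha hb hc h1
  rw [D_combine, Matrix.SpecialLinearGroup.mem_center_iff] at h1
  obtain ⟨r, -, hr⟩ := h1
  refine D_scalar hn hp hp2 hζ ha hb hc (r := r) fun i => ?_
  rw [← hr, scalar_apply, diagonal_apply_eq]

end Cfsg.Agent.Omega.SQK.Cls
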