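import Mathlib
import Cfsg.Agent.Omega.SQK.ClsLinear
import Cfsg.Agent.LieClassical.SympCenter
import Cfsg.Prelude.Def_Classical

/-!
# `m_3(PSp_2m(F)) ≥ 3` for `m ≥ 3`
-/

set_option autoImplicit false

namespace Cfsg.Agent.Omega.SQK.Cls

open Cfsg Subgroup Matrix

variable {F : Type*} [Field F]

namespace Symp

variable {m : ℕ}

/-- the block matrix -/
def bm (g : Fin m → Matrix.SpecialLinearGroup (Fin 2) F) : Matrix (Fin m ⊕ Fin m) (Fin m ⊕ Fin m) F :=
  fromBlocks (diagonal fun i => (g i : Matrix (Fin 2) (Fin 2) F) 0 0)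
    (diagonal fun i => (g i : Matrix (Fin 2) (Fin 2) F) 0 1)
    (diagonal fun i => (g i : Matrix (Fin 2) (Fin 2) F) 1 0)
    (diagonal fun i => (g i : Matrix (Fin 2) (Fin 2) F) 1 1)

theorem bm_mem (g : Fin m → Matrix.SpecialLinearGroup (Fin 2) F) : bm g ∈ symplecticGroup (Fin m) F := by
  have hd : ∀ i, (g i : Matrix (Fin 2) (Fin 2) F) 0 0 * (g i : Matrix (Fin 2) (Fin 2) F) 1 1 -
      (g i : Matrix (Fin 2) (Fin 2) F) 0 1 * (g i : Matrix (Fin 2) (Fin 2) F) 1 0 = 1 := by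
    intro i
    have := (g i).2
    rw [det_fin_two] at this
    exact this
  rw [bm, SymplecticGroup.fromBlocks_mem_iff]
  simp only [diagonal_transpose, diagonal_mul_diagonal]
  refine ⟨?_, ?_, ?_⟩
  · congr 1; funext i; ring
  · congr 1; funext i; ring
  · rw [diagonal_sub, ← diagonal_one]
    congr 1
    funext i
    linear_combination hd i

theorem bm_one : bm (1 : Fin m → Matrix.SpecialLinearGroup (Fin 2) F) = 1 := by
  change fromBlocks (diagonal fun _ => (1 : Matrix (Fin 2) (Fin 2) F) 0 0)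
    (diagonal fun _ => (1 : Matrix (Fin 2) (Fin 2) F) 0 1)
    (diagonal fun _ => (1 : Matrix (Fin 2) (Fin 2) F) 1 0)
    (diagonal fun _ => (1 : Matrix (Fin 2) (Fin 2) F) 1 1) = 1
  rw [← fromBlocks_one]
  simp

theorem bm_mul (g g' : Fin m → Matrix.SpecialLinearGroup (Fin 2) F) : bm (g * g') = bm g * bm g' := by
  have h1 : ∀ i a c, ((g * g') i : Matrix (Fin 2) (Fin 2) F) a c =
      (g i : Matrix (Fin 2) (Fin 2) F) a 0 * (g' i : Matrix (Fin 2) (Fin 2) F) 0 c +
      (g i : Matrix (Fin 2) (Fin 2) F) a 1 * (g' i : Matrix (Fin 2) (Fin 2) F) 1 c := by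
    intro i a c
    change ((g i : Matrix (Fin 2) (Fin 2) F) * (g' i : Matrix (Fin 2) (Fin 2) F)) a c = _
    rw [mul_apply, Fin.sum_univ_two]
  rw [bm, bm, bm, fromBlocks_multiply]
  simp only [diagonal_mul_diagonal, diagonal_add, h1]

/-- `SL_2(F)^m → Sp_2m(F)` -/
def hom : (Fin m → Matrix.SpecialLinearGroup (Fin 2) F) →* symplecticGroup (Fin m) F where
  toFun g := ⟨bm g, bm_mem g⟩
  map_one' := Subtype.ext bm_one
  map_mul' g g' := Subtype.ext (bm_mul g g')

theorem hom_apply (g : Fin m → Matrix.SpecialLinearGroup (Fin 2) F) (i : Fin m) :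
    (hom g : Matrix (Fin m ⊕ Fin m) (Fin m ⊕ Fin m) F) (Sum.inl i) (Sum.inr i)
      = (g i : Matrix (Fin 2) (Fin 2) F) 0 1 := by
  change bm g _ _ = _
  rw [bm, fromBlocks_apply₁₂, diagonal_apply_eq]

end Symp

open Symp in
theorem psp {m : ℕ} (h : 3 ≤ m) : ¬ PRankLE 3 2 (PSp m F) := by
  let k : Fin 3 → Fin m := Fin.castLE h
  have hk : Function.Injective k := Fin.castLE_injective h
  let e : Fin 3 → Fin m → Matrix.SpecialLinearGroup (Fin 2) F := fun i => Pi.mulSingle (k i) (M3 F)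
  have he : ∀ i, (e i) ^ 3 = 1 := by
    intro i
    change (Pi.mulSingle (k i) (M3 F) : Fin m → Matrix.SpecialLinearGroup (Fin 2) F) ^ 3 = 1
    rw [← Pi.mulSingle_pow, M3_cube, Pi.mulSingle_one]
  have hc : ∀ i j, i ≠ j → Commute (e i) (e j) := fun i j hij => Pi.mulSingle_commute (fun h => hij (hk h)) _ _
  refine not_prankLE_of_three (Subgroup.center (symplecticGroup (Fin m) F)) (by norm_num) (x := hom (e 0))
    (y := hom (e 1)) (z := hom (e 2)) ?_ ?_ ?_ ?_ ?_ ?_ ?_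
  · rw [← map_pow, he, map_one]
  · rw [← map_pow, he, map_one]
  · rw [← map_pow, he, map_one]
  · exact (hc 0 1 (by decide)).map hom
  · exact (hc 0 2 (by decide)).map hom
  · exact (hc 1 2 (by decide)).map hom
  · intro a b c ha hb hc' h1
    rw [← map_pow, ← map_pow, ← map_pow, ← map_mul, ← map_mul, LieClassical.SympCenter.mem_center_iff] at h1
    obtain ⟨r, hr⟩ := h1
    have h2 : ∀ i : Fin m, ((e 0 ^ a * e 1 ^ b * e 2 ^ c) i : Matrix (Fin 2) (Fin 2) F) 0 1 = 0 := by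
      intro i
      rw [← hom_apply, hr]
      simp
    have h01 : k 0 ≠ k 1 := fun h => absurd (hk h) (by decide)
    have h02 : k 0 ≠ k 2 := fun h => absurd (hk h) (by decide)
    have h12 : k 1 ≠ k 2 := fun h => absurd (hk h) (by decide)
    have e00 : ((e 0 ^ a * e 1 ^ b * e 2 ^ c) (k 0)) = M3 F ^ a := by
      simp [e, Pi.mul_apply, Pi.pow_apply, Pi.mulSingle_eq_of_ne h01, Pi.mulSingle_eq_of_ne h02]
    have e11 : ((e 0 ^ a * e 1 ^ b * e 2 ^ c) (k 1)) = M3 F ^ b := by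
      simp [e, Pi.mul_apply, Pi.pow_apply, Pi.mulSingle_eq_of_ne h01.symm, Pi.mulSingle_eq_of_ne h12]
    have e22 : ((e 0 ^ a * e 1 ^ b * e 2 ^ c) (k 2)) = M3 F ^ c := by
      simp [e, Pi.mul_apply, Pi.pow_apply, Pi.mulSingle_eq_of_ne h02.symm, Pi.mulSingle_eq_of_ne h12.symm]
    refine ⟨M3_off (F := F) ha ?_, M3_off (F := F) hb ?_, M3_off (F := F) hc' ?_⟩
    · rw [← e00]; exact h2 _
    · rw [← e11]; exact h2 _
    · rw [← e22]; exact h2 _

end Cfsg.Agent.Omega.SQK.Cls
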