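import Cfsg.Agent.Omega.SQK.Rank
import Cfsg.Prelude.Def_Classical

/-!
Row `PSU_n(q)`, `n ≥ 4`, `q` even : some odd prime `p` with `p`-rank `≥ 3` (`p ∣ q + 1`, diagonal torus).
Row `PSL_n(q)`, `n ≥ 4`, `q ≥ 4` even : the same with `p ∣ q - 1`.
-/

set_option autoImplicit false

namespace Cfsg.Agent.Omega.SQK.RowPSU2

open Cfsg

section Sl

variable {F : Type*} [Field F] {n : ℕ}

/-- Diagonal matrix of determinant one. -/
def dgl (d : Fin n → F) (h : ∏ i, d i = 1) : Matrix.SpecialLinearGroup (Fin n) F :=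
  ⟨Matrix.diagonal d, by rw [Matrix.det_diagonal, h]⟩

theorem dgl_mul (d e : Fin n → F) (h : ∏ i, d i = 1) (k : ∏ i, e i = 1) :
    dgl d h * dgl e k = dgl (fun i => d i * e i) (by rw [Finset.prod_mul_distrib, h, k, one_mul]) := by
  apply Subtype.ext
  show Matrix.diagonal d * Matrix.diagonal e = Matrix.diagonal _
  rw [Matrix.diagonal_mul_diagonal]

theorem dgl_comm (d e : Fin n → F) (h : ∏ i, d i = 1) (k : ∏ i, e i = 1) :
    Commute (dgl d h) (dgl e k) := by
  show dgl d h * dgl e k = dgl e k * dgl d h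
  rw [dgl_mul, dgl_mul]
  apply Subtype.ext
  show Matrix.diagonal _ = Matrix.diagonal _
  congr 1
  funext i
  exact mul_comm _ _

theorem dgl_pow (d : Fin n → F) (h : ∏ i, d i = 1) (m : ℕ) (hm : ∀ i, d i ^ m = 1) :
    dgl d h ^ m = 1 := by
  apply Subtype.ext
  rw [Matrix.SpecialLinearGroup.coe_pow]
  show Matrix.diagonal d ^ m = 1
  rw [Matrix.diagonal_pow]
  have : (d ^ m : Fin n → F) = 1 := by
    funext i
    simpa using hm i
  rw [this]
  exact Matrix.diagonal_one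

/-- Permutation matrix in characteristic two. -/
def pml [CharP F 2] (σ : Equiv.Perm (Fin n)) : Matrix.SpecialLinearGroup (Fin n) F :=
  ⟨σ.permMatrix F, by
    rw [Matrix.det_permutation]
    rcases Int.units_eq_one_or (Equiv.Perm.sign σ) with h | h
    · rw [h]; simp
    · rw [h]
      simp [CharTwo.neg_eq]⟩

theorem pml_comm_iff [CharP F 2] (σ : Equiv.Perm (Fin n)) (d : Fin n → F) (h : ∏ i, d i = 1) :
    Commute (pml (F := F) σ) (dgl d h) ↔ ∀ i, d (σ i) = d i := by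
  have key : ∀ i j, ((σ.permMatrix F * Matrix.diagonal d) i j = if σ i = j then d j else 0) ∧
      ((Matrix.diagonal d * σ.permMatrix F) i j = if σ i = j then d i else 0) := by
    intro i j
    constructor
    · rw [Matrix.mul_diagonal]
      simp [Equiv.Perm.permMatrix, PEquiv.toMatrix_apply]
    · rw [Matrix.diagonal_mul]
      simp [Equiv.Perm.permMatrix, PEquiv.toMatrix_apply]
  constructor
  · intro hc i
    have h1 : σ.permMatrix F * Matrix.diagonal d = Matrix.diagonal d * σ.permMatrix F :=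
      congrArg Subtype.val hc
    have h2 := congrFun (congrFun h1 i) (σ i)
    rw [(key i (σ i)).1, (key i (σ i)).2, if_pos rfl, if_pos rfl] at h2
    exact h2
  · intro hd
    apply Subtype.ext
    show σ.permMatrix F * Matrix.diagonal d = Matrix.diagonal d * σ.permMatrix F
    ext i j
    rw [(key i j).1, (key i j).2]
    by_cases hij : σ i = j
    · rw [if_pos hij, if_pos hij, ← hij, hd]
    · rw [if_neg hij, if_neg hij]

theorem swap_iff [CharP F 2] (a b : Fin n) (d : Fin n → F) (h : ∏ i, d i = 1) :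
    Commute (pml (F := F) (Equiv.swap a b)) (dgl d h) ↔ d a = d b := by
  rw [pml_comm_iff]
  constructor
  · intro hd
    have := hd a
    rw [Equiv.swap_apply_left] at this
    exact this.symm
  · intro hab i
    by_cases h1 : i = a
    · subst h1; rw [Equiv.swap_apply_left]; exact hab.symm
    by_cases h2 : i = b
    · subst h2; rw [Equiv.swap_apply_right]; exact hab
    rw [Equiv.swap_apply_of_ne_of_ne h1 h2]

end Sl

/-- The exponents. -/
def ex : Fin 3 → ℕ → ℤ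
  | 0, 0 => 3
  | 0, 1 => -1
  | 0, 2 => -1
  | 0, 3 => -1
  | 1, 0 => 1
  | 1, 1 => 1
  | 1, 2 => -1
  | 1, 3 => -1
  | 2, 0 => 1
  | 2, 1 => 1
  | 2, 2 => 1
  | 2, 3 => -3
  | _, _ => 0

section ex

variable {F : Type*} [Field F] (z : F) (m : ℕ)

def dv (k : Fin 3) (i : Fin (m + 4)) : F := z ^ (ex k i)

theorem dv_prod (hz : z ≠ 0) (k : Fin 3) : ∏ i, dv z m k i = 1 := by
  rw [Fin.prod_univ_succ, Fin.prod_univ_succ, Fin.prod_univ_succ, Fin.prod_univ_succ]
  have h : ∀ i : Fin m, dv z m k i.succ.succ.succ.succ = 1 := by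
    intro i
    have : ex k ((i.succ.succ.succ.succ : Fin (m + 4)) : ℕ) = 0 := by
      have h2 : ((i.succ.succ.succ.succ : Fin (m + 4)) : ℕ) = (i : ℕ) + 1 + 1 + 1 + 1 := by simp
      rw [h2]
      fin_cases k <;> rfl
    unfold dv
    rw [this, zpow_zero]
  rw [Finset.prod_congr rfl (fun i _ => h i), Finset.prod_const_one, mul_one]
  have e0 : dv z m k 0 = z ^ ex k 0 := rfl
  have e1 : dv z m k (Fin.succ 0) = z ^ ex k 1 := rfl
  have e2 : dv z m k (Fin.succ (Fin.succ 0)) = z ^ ex k 2 := rfl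
  have e3 : dv z m k (Fin.succ (Fin.succ (Fin.succ 0))) = z ^ ex k 3 := rfl
  rw [e0, e1, e2, e3, ← zpow_add₀ hz, ← zpow_add₀ hz, ← zpow_add₀ hz]
  fin_cases k <;> simp [ex]

theorem dv_pow (k : Fin 3) (p : ℕ) (hz : z ^ p = 1) (i : Fin (m + 4)) : dv z m k i ^ p = 1 := by
  unfold dv
  rw [← zpow_natCast, ← zpow_mul, mul_comm, zpow_mul, zpow_natCast, hz, one_zpow]

/-- The three places. -/
def pl (k : Fin 3) : Fin (m + 4) × Fin (m + 4) :=
  (⟨k, by omega⟩, ⟨k + 1, by omega⟩)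

theorem dv_eq (j k : Fin 3) (h : j ≠ k) : dv z m k (pl m j).1 = dv z m k (pl m j).2 := by
  unfold dv pl
  fin_cases j <;> fin_cases k <;> first | exact absurd rfl h | rfl

theorem dv_ne (hz : z ≠ 0) (k : Fin 3) {p : ℕ} (hp : p.Prime) (h2 : p ≠ 2) (hzp : z ^ p = 1)
    (hz1 : z ≠ 1) : dv z m k (pl m k).1 ≠ dv z m k (pl m k).2 := by
  have : Fact p.Prime := ⟨hp⟩
  have hord : orderOf z = p := orderOf_eq_prime hzp hz1
  have h4 : z ^ (4 : ℕ) ≠ 1 := by
    intro h
    have := orderOf_dvd_of_pow_eq_one h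
    rw [hord] at this
    have h3 : p ∣ 2 := hp.dvd_of_dvd_pow (show p ∣ 2 ^ 2 by norm_num; exact this)
    exact h2 ((Nat.prime_dvd_prime_iff_eq hp Nat.prime_two).1 h3)
  have h22 : z ^ (2 : ℕ) ≠ 1 := by
    intro h
    exact h4 (by rw [show (4 : ℕ) = 2 * 2 from rfl, pow_mul, h, one_pow])
  intro h
  unfold dv pl at h
  fin_cases k
  · have h' : z ^ (3 : ℤ) = z ^ (-1 : ℤ) := h
    apply h4
    have : z ^ (4 : ℤ) = 1 := by
      rw [show (4 : ℤ) = 3 - (-1) by norm_num, zpow_sub₀ hz, h', div_self (zpow_ne_zero _ hz)]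
    exact_mod_cast this
  · have h' : z ^ (1 : ℤ) = z ^ (-1 : ℤ) := h
    apply h22
    have : z ^ (2 : ℤ) = 1 := by
      rw [show (2 : ℤ) = 1 - (-1) by norm_num, zpow_sub₀ hz, h', div_self (zpow_ne_zero _ hz)]
    exact_mod_cast this
  · have h' : z ^ (1 : ℤ) = z ^ (-3 : ℤ) := h
    apply h4
    have : z ^ (4 : ℤ) = 1 := by
      rw [show (4 : ℤ) = 1 - (-3) by norm_num, zpow_sub₀ hz, h', div_self (zpow_ne_zero _ hz)]
    exact_mod_cast this

end ex

section main

variable {F : Type} [Field F]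

/-- The criterion for a group `G` between. -/
theorem psl_of (p : ℕ) (hp : p.Prime) (h2 : p ≠ 2) [CharP F 2] (z : F) (hz : z ^ p = 1)
    (hz1 : z ≠ 1) (m : ℕ) :
    ¬ PRankLE p 2 (Matrix.ProjectiveSpecialLinearGroup (Fin (m + 4)) F) := by
  have : Fact p.Prime := ⟨hp⟩
  have hz0 : z ≠ 0 := by
    rintro rfl
    rw [zero_pow hp.ne_zero] at hz
    exact zero_ne_one hz
  exact Rank.not_of_pairs p (fun k => dgl (dv z m k) (dv_prod z m hz0 k))
    (fun k => dgl_pow _ _ p (dv_pow z m k p hz))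
    (fun j k => dgl_comm _ _ _ _) (fun k => pml (Equiv.swap (pl m k).1 (pl m k).2))
    (fun j k hjk => (swap_iff _ _ _ _).2 (dv_eq z m j k hjk))
    (fun k h => dv_ne z m hz0 k hp h2 hz hz1 ((swap_iff _ _ _ _).1 h))
    _ le_rfl (by simp)

theorem mem_SU_dgl {n q : ℕ} (d : Fin n → F) (h : ∏ i, d i = 1) (hd : ∀ i, d i * d i ^ q = 1) :
    dgl d h ∈ SU n F q := by
  intro u v
  show hermForm n F q (Matrix.mulVec (Matrix.diagonal d) u) (Matrix.mulVec (Matrix.diagonal d) v) =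
    hermForm n F q u v
  unfold hermForm
  refine Finset.sum_congr rfl fun i _ => ?_
  rw [Matrix.mulVec_diagonal, Matrix.mulVec_diagonal, mul_pow]
  rw [show d i * u i * (d i ^ q * v i ^ q) = (d i * d i ^ q) * (u i * v i ^ q) by ring, hd, one_mul]

theorem mem_SU_pml [CharP F 2] {n q : ℕ} (σ : Equiv.Perm (Fin n)) :
    pml (F := F) σ ∈ SU n F q := by
  intro u v
  have h : ∀ w : Fin n → F, Matrix.mulVec (σ.permMatrix F) w = w ∘ σ := by
    intro w
    funext i
    simp [Matrix.permMatrix_mulVec]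
  show hermForm n F q (Matrix.mulVec (σ.permMatrix F) u) (Matrix.mulVec (σ.permMatrix F) v) =
    hermForm n F q u v
  rw [h, h]
  unfold hermForm
  exact Equiv.sum_comp σ (fun i => u i * v i ^ q)

theorem psu_of (p : ℕ) (hp : p.Prime) (h2 : p ≠ 2) [CharP F 2] (z : F) (hz : z ^ p = 1)
    (hz1 : z ≠ 1) (q : ℕ) (hzq : z ^ (q + 1) = 1) (m : ℕ) :
    ¬ PRankLE p 2 (PSU (m + 4) F q) := by
  have : Fact p.Prime := ⟨hp⟩
  have hz0 : z ≠ 0 := by
    rintro rfl
    rw [zero_pow hp.ne_zero] at hz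
    exact zero_ne_one hz
  have hd : ∀ k i, dv z m k i * dv z m k i ^ q = 1 := by
    intro k i
    rw [← pow_succ']
    exact dv_pow z m k (q + 1) hzq i
  have hP := dv_prod z m hz0
  exact Rank.not_of_pairs p
    (fun k => (⟨dgl (dv z m k) (hP k), mem_SU_dgl _ _ (hd k)⟩ : SU (m + 4) F q))
    (fun k => Subtype.ext (dgl_pow _ (hP k) p (dv_pow z m k p hz)))
    (fun j k => Subtype.ext (dgl_comm _ _ (hP j) (hP k)))
    (fun k => ⟨pml (Equiv.swap (pl m k).1 (pl m k).2), mem_SU_pml _⟩)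
    (fun j k hjk => Subtype.ext ((swap_iff _ _ _ (hP k)).2 (dv_eq z m j k hjk)))
    (fun k h => dv_ne z m hz0 k hp h2 hz hz1 ((swap_iff _ _ _ (hP k)).1 (congrArg Subtype.val h)))
    _ le_rfl (by simp)

variable [Fintype F]

theorem exists_root {p : ℕ} (hp : p.Prime) (h : p ∣ Fintype.card F - 1) :
    ∃ z : F, z ^ p = 1 ∧ z ≠ 1 := by
  have : Fact p.Prime := ⟨hp⟩
  classical
  obtain ⟨u, hu⟩ := exists_prime_orderOf_dvd_card p (G := Fˣ) (by
    rw [Fintype.card_units]; exact h)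
  refine ⟨u, ?_, ?_⟩
  · rw [← Units.val_pow_eq_pow_val, ← hu, pow_orderOf_eq_one, Units.val_one]
  · intro h1
    have : u = 1 := Units.ext h1
    rw [this, orderOf_one] at hu
    exact hp.one_lt.ne hu

theorem charP_two (h : Even (Fintype.card F)) : CharP F 2 := by
  obtain ⟨r, hr⟩ := CharP.exists F
  have hrp : r.Prime := by
    rcases CharP.char_is_prime_or_zero F r with h | h
    · exact h
    · subst h
      have := CharP.charP_to_charZero F
      exact absurd (inferInstance : Finite F) (by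
        have := Infinite.of_injective (Nat.cast : ℕ → F) Nat.cast_injective
        exact not_finite_iff_infinite.2 this)
  obtain ⟨k, -, hk⟩ := FiniteField.card F r
  have h3 : 2 ∣ r ^ (k : ℕ) := by
    rw [← hk]
    exact h.two_dvd
  have h4 := (Nat.prime_dvd_prime_iff_eq Nat.prime_two hrp).1 (Nat.prime_two.dvd_of_dvd_pow h3)
  rw [h4]
  exact hr

/-- **Row `PSL_n(q)`**, `n ≥ 4`, `q ≥ 4` even. -/
theorem psl (n : ℕ) (hq : Even (Fintype.card F)) (h4 : 3 < Fintype.card F) (hn : 4 ≤ n) :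
    ∃ p : ℕ, p.Prime ∧ p ≠ 2 ∧
      ¬ PRankLE p 2 (Matrix.ProjectiveSpecialLinearGroup (Fin n) F) := by
  obtain ⟨m, rfl⟩ := Nat.exists_eq_add_of_le' hn
  have h2 : CharP F 2 := charP_two hq
  obtain ⟨p, hp, hpd⟩ := Nat.exists_prime_and_dvd (n := Fintype.card F - 1) (by omega)
  have hp2 : p ≠ 2 := by
    rintro rfl
    obtain ⟨a, ha⟩ := hq
    omega
  obtain ⟨z, hz, hz1⟩ := exists_root (F := F) hp hpd
  exact ⟨p, hp, hp2, psl_of p hp hp2 z hz hz1 m⟩

/-- **Row `PSU_n(q)`**, `n ≥ 4`, `q` even. -/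
theorem psu (n q : ℕ) (hq : Even q) (hF : Fintype.card F = q ^ 2) (hn : 4 ≤ n) :
    ∃ p : ℕ, p.Prime ∧ p ≠ 2 ∧ ¬ PRankLE p 2 (PSU n F q) := by
  obtain ⟨m, rfl⟩ := Nat.exists_eq_add_of_le' hn
  have h2 : CharP F 2 := charP_two (by
    rw [hF]
    exact (Nat.even_pow.2 ⟨hq, two_ne_zero⟩))
  have hq0 : q ≠ 0 := by
    rintro rfl
    exact Fintype.card_ne_zero (α := F) (by rw [hF]; rfl)
  obtain ⟨p, hp, hpd⟩ := Nat.exists_prime_and_dvd (n := q + 1) (by omega)
  have hp2 : p ≠ 2 := by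
    rintro rfl
    obtain ⟨a, ha⟩ := hq
    omega
  obtain ⟨z, hz, hz1⟩ := exists_root (F := F) hp (by
    rw [hF, show q ^ 2 - 1 = (q + 1) * (q - 1) by
      rw [← Nat.sq_sub_sq, one_pow]]
    exact hpd.mul_right _)
  refine ⟨p, hp, hp2, psu_of p hp hp2 z hz hz1 q ?_ m⟩
  obtain ⟨c, hc⟩ := hpd
  rw [hc, pow_mul, hz, one_pow]

end main

end Cfsg.Agent.Omega.SQK.RowPSU2
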