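import Cfsg.Agent.Omega.SQK.Rank
import Cfsg.Agent.LieClassical.OrthCenter
import Cfsg.Agent.LieClassical.OrthForms

/-!
Three commuting elements of order three in `Omega F Q`, characteristic two.
-/

set_option autoImplicit false
set_option linter.unusedSectionVars false

namespace Cfsg.Agent.Omega.SQK.ReflThree

open Cfsg Cfsg.Agent.Omega.SQK.Rank QuadraticMap Matrix
open Cfsg.Agent.ClassicalGeometry.Reflection Cfsg.Agent.LieClassical.OrthCenter
open scoped commutatorElement

variable {ι : Type} [Fintype ι] [DecidableEq ι] {F : Type*} [Field F]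
  {Q : QuadraticForm F (ι → F)}

theorem ne_of_one {v : ι → F} (h : Q v = 1) : Q v ≠ 0 := by rw [h]; exact one_ne_zero

/-- The reflection in a vector with `Q v = 1`. -/
def rf (v : ι → F) (h : Q v = 1) : isometryGroup F (⇑Q) := reflIso Q v (ne_of_one h)

theorem act_rf {v : ι → F} (h : Q v = 1) (x : ι → F) :
    act Q (rf v h) x = x - polar Q v x • v := by
  rw [act_def, rf, coe_reflIso, reflectionMatrix_mulVec, h, inv_one, one_mul]

theorem rf_mul_self {v : ι → F} (h : Q v = 1) : rf v h * rf v h = 1 := reflIso_mul_self _ _ _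

theorem polar_sub_smul (u v x : ι → F) (c : F) :
    polar Q u (x - c • v) = polar Q u x - c * polar Q u v := by
  rw [sub_eq_add_neg, ← neg_smul, polar_add_right, polar_smul_right, smul_eq_mul, neg_mul,
    ← sub_eq_add_neg]

theorem rf_comm {u v : ι → F} (hu : Q u = 1) (hv : Q v = 1) (h : polar Q u v = 0) :
    Commute (rf u hu) (rf v hv) := by
  have h' : polar Q v u = 0 := by rw [polar_comm, h]
  apply act_ext
  intro x
  rw [act_mul, act_mul, act_rf, act_rf, act_rf, act_rf, polar_sub_smul, polar_sub_smul, h, h',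
    mul_zero, mul_zero, sub_zero, sub_zero]
  abel

theorem rot_comm {u v u' v' : ι → F} (hu : Q u = 1) (hv : Q v = 1) (hu' : Q u' = 1)
    (hv' : Q v' = 1) (h1 : polar Q u u' = 0) (h2 : polar Q u v' = 0) (h3 : polar Q v u' = 0)
    (h4 : polar Q v v' = 0) : Commute (rf u hu * rf v hv) (rf u' hu' * rf v' hv') :=
  ((rf_comm hu hu' h1).mul_right (rf_comm hu hv' h2)).mul_left
    ((rf_comm hv hu' h3).mul_right (rf_comm hv hv' h4))

section two

variable (h2 : (2 : F) = 0) {u v : ι → F} (hu : Q u = 1) (hv : Q v = 1) (huv : polar Q u v = 1)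

include h2 in
theorem polar_self_eq (v : ι → F) : polar Q v v = 0 := by
  rw [Cfsg.Agent.ClassicalGeometry.Reflection.polar_self', h2, zero_mul]

include h2 huv in
theorem act_rot (x : ι → F) :
    act Q (rf u hu * rf v hv) x = x + polar Q v x • v + (polar Q u x + polar Q v x) • u := by
  rw [act_mul, act_rf, act_rf, polar_sub_smul, huv, mul_one]
  funext i
  simp only [Pi.sub_apply, Pi.smul_apply, Pi.add_apply, smul_eq_mul]
  linear_combination (-(polar Q v x) * v i - (polar Q u x) * u i) * h2

include h2 huv in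
theorem rot_pow_three : (rf u hu * rf v hv) ^ 3 = 1 := by
  have hvu : polar Q v u = 1 := by rw [polar_comm, huv]
  have huu := polar_self_eq (Q := Q) h2 u
  have hvv := polar_self_eq (Q := Q) h2 v
  apply act_ext
  intro x
  rw [pow_succ, pow_two, act_mul, act_mul, act_one, act_rot h2 hu hv huv, act_rot h2 hu hv huv,
    act_rot h2 hu hv huv]
  simp only [polar_add_right, polar_smul_right, huv, hvu, huu, hvv, smul_eq_mul, mul_one, mul_zero]
  funext i
  simp only [Pi.smul_apply, Pi.add_apply, smul_eq_mul]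
  generalize polar Q u x = α
  generalize polar Q v x = β
  linear_combination ((2 * α + 4 * β) * v i + (4 * α + 6 * β) * u i) * h2

include h2 huv in
theorem not_commute : ¬ Commute (rf u hu) (rf u hu * rf v hv) := by
  intro h
  have hvu : polar Q v u = 1 := by rw [polar_comm, huv]
  have huu := polar_self_eq (Q := Q) h2 u
  have h1 : rf u hu * rf v hv * (rf u hu * rf v hv) = 1 := by
    rw [← mul_assoc, ← h.eq, ← mul_assoc, rf_mul_self, one_mul, rf_mul_self]
  have h3 := rot_pow_three h2 hu hv huv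
  rw [pow_succ, pow_two, h1, one_mul] at h3
  have h4 := act_rot h2 hu hv huv u
  rw [h3, act_one, hvu, huu, zero_add, one_smul, one_smul] at h4
  have h5 : u = v := by
    funext i
    have := congrFun h4 i
    simp only [Pi.add_apply] at this
    linear_combination this + u i * h2
  rw [h5, polar_self_eq h2] at hvu
  exact zero_ne_one hvu

include h2 huv in
theorem rot_mem : rf u hu * rf v hv ∈ Omega F (⇑Q) := by
  have h3 := rot_pow_three h2 hu hv huv
  have h4 : rf u hu * rf v hv = ⁅rf u hu, rf v hv⁆ * ⁅rf u hu, rf v hv⁆ := by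
    have e : ⁅rf u hu, rf v hv⁆ = (rf u hu * rf v hv) ^ 2 := by
      rw [commutatorElement_def, inv_eq_of_mul_eq_one_left (rf_mul_self hu),
        inv_eq_of_mul_eq_one_left (rf_mul_self hv), pow_two]
      group
    rw [e, ← pow_add, show 2 + 2 = 3 + 1 from rfl, pow_succ, h3, one_mul]
  rw [h4]
  exact mul_mem (Subgroup.commutator_mem_commutator (Subgroup.mem_top _) (Subgroup.mem_top _))
    (Subgroup.commutator_mem_commutator (Subgroup.mem_top _) (Subgroup.mem_top _))

end two

/-- Three mutually orthogonal pairs `(u i, v i)` with `Q = 1` and `polar (u i) (v i) = 1`. -/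
theorem not_pRankLE [Finite F] (h2 : (2 : F) = 0) (hQ : (polarBilin Q).Nondegenerate)
    (hn : 3 ≤ Fintype.card ι) (hs : ∃ u : ι → F, u ≠ 0 ∧ Q u = 0)
    (u v : Fin 3 → ι → F) (hu : ∀ i, Q (u i) = 1) (hv : ∀ i, Q (v i) = 1)
    (huv : ∀ i, polar Q (u i) (v i) = 1)
    (h11 : ∀ i j, i ≠ j → polar Q (u i) (u j) = 0) (h12 : ∀ i j, i ≠ j → polar Q (u i) (v j) = 0)
    (h22 : ∀ i j, i ≠ j → polar Q (v i) (v j) = 0) : ¬ PRankLE 3 2 (POmega F (⇑Q)) := by
  have : Fact (Nat.Prime 3) := ⟨Nat.prime_three⟩
  refine not_of_subgroups 3 (fun i => (⟨rf (u i) (hu i) * rf (v i) (hv i),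
      rot_mem h2 (hu i) (hv i) (huv i)⟩ : Omega F (⇑Q)))
    (fun i => Subtype.ext (rot_pow_three h2 (hu i) (hv i) (huv i))) ?_
    (fun i => (Subgroup.centralizer ({rf (u i) (hu i)} : Set (isometryGroup F (⇑Q)))).comap
      (Omega F (⇑Q)).subtype) ?_ ?_ (Subgroup.center (Omega F (⇑Q))) ?_ (by simp)
  · intro i j
    rcases eq_or_ne i j with rfl | hij
    · exact Commute.refl _
    · apply Subtype.ext
      exact (rot_comm (hu i) (hv i) (hu j) (hv j) (h11 i j hij) (h12 i j hij)
        ((polar_comm _ _ _).trans (h12 j i hij.symm)) (h22 i j hij)).eq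
  · intro i j hij
    rw [Subgroup.mem_comap, Subgroup.mem_centralizer_singleton_iff]
    exact ((rf_comm (hu i) (hu j) (h11 i j hij)).mul_right
      (rf_comm (hu i) (hv j) (h12 i j hij))).eq.symm
  · intro i h
    rw [Subgroup.mem_comap, Subgroup.mem_centralizer_singleton_iff] at h
    exact not_commute h2 (hu i) (hv i) (huv i) (Commute.symm h)
  · intro i
    rw [center_omega_eq_bot_char_two h2 hQ hn hs]
    exact bot_le

end Cfsg.Agent.Omega.SQK.ReflThree
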