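import Cfsg.Agent.Omega.SQK.Rank

/-!
Characters of `(ZMod p)^3` for diagonal matrices.
-/

set_option autoImplicit false

namespace Cfsg.Agent.Omega.SQK.Torus

open Cfsg Cfsg.Agent.Omega.SQK.Rank

variable {F : Type*} [Field F] {p : ℕ}

/-- `c ↦ u ^ c` as a function `ZMod p → F`. -/
def ch (p : ℕ) (u : Fˣ) (hu : u ^ p = 1) (c : ZMod p) : F := ((pw p u hu c).toMul : Fˣ)

theorem ch_zero (u : Fˣ) (hu : u ^ p = 1) : ch p u hu 0 = 1 := by
  simp [ch]

theorem ch_add (u : Fˣ) (hu : u ^ p = 1) (x y : ZMod p) :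
    ch p u hu (x + y) = ch p u hu x * ch p u hu y := by
  simp [ch]

theorem ch_sum {ι : Type*} (s : Finset ι) (u : Fˣ) (hu : u ^ p = 1) (w : ι → ZMod p) :
    ∏ i ∈ s, ch p u hu (w i) = ch p u hu (∑ i ∈ s, w i) := by
  classical
  induction s using Finset.induction_on with
  | empty => simp [ch_zero]
  | insert a s ha ih => rw [Finset.prod_insert ha, Finset.sum_insert ha, ch_add, ih]

theorem ch_pow (u : Fˣ) (hu : u ^ p = 1) (x : ZMod p) (n : ℕ) :
    ch p u hu x ^ n = ch p u hu (n • x) := by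
  induction n with
  | zero => simp [ch_zero]
  | succ n ih => rw [pow_succ, ih, succ_nsmul, ch_add]

theorem ch_injective [Fact p.Prime] (u : Fˣ) (hu : u ^ p = 1) (h1 : u ≠ 1) :
    Function.Injective (ch p u hu) := by
  have : NeZero p := ⟨(Fact.out : p.Prime).ne_zero⟩
  intro x y hxy
  have h2 : pw p u hu x = pw p u hu y := Additive.toMul.injective (Units.ext hxy)
  have h3 : pw p u hu (x - y) = 0 := by rw [map_sub, h2, sub_self]
  have h4 := pw_natCast p u hu (x - y).val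
  rw [ZMod.natCast_zmod_val, h3] at h4
  have h5 : x - y = 0 := val_eq_zero_of_mem p hu ⊥ (by simpa using h1) (x - y)
    (by rw [← h4]; exact Subgroup.mem_bot.2 rfl)
  exact sub_eq_zero.1 h5

/-- The weights of the torus: `(x, y, z, -(x+y+z), 0, …)`. -/
def wt {n : ℕ} (hn : 4 ≤ n) (v : Fin 3 → ZMod p) : Fin n → ZMod p :=
  Pi.single ⟨0, by omega⟩ (v 0) + Pi.single ⟨1, by omega⟩ (v 1) + Pi.single ⟨2, by omega⟩ (v 2) +
    Pi.single ⟨3, by omega⟩ (-(v 0 + v 1 + v 2))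

theorem wt_add {n : ℕ} (hn : 4 ≤ n) (v w : Fin 3 → ZMod p) : wt hn (v + w) = wt hn v + wt hn w := by
  have e : (-((v + w) 0 + (v + w) 1 + (v + w) 2)) =
      (-(v 0 + v 1 + v 2)) + (-(w 0 + w 1 + w 2)) := by simp only [Pi.add_apply]; ring
  rw [wt, e]
  simp only [Pi.add_apply, Pi.single_add, wt]
  abel

theorem wt_zero {n : ℕ} (hn : 4 ≤ n) : wt hn (0 : Fin 3 → ZMod p) = 0 := by
  simp [wt]

theorem sum_wt {n : ℕ} (hn : 4 ≤ n) (v : Fin 3 → ZMod p) : ∑ i, wt hn v i = 0 := by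
  simp only [wt, Pi.add_apply, Finset.sum_add_distrib]
  rw [Finset.sum_pi_single', Finset.sum_pi_single', Finset.sum_pi_single', Finset.sum_pi_single']
  simp

theorem eq_zero_of_const [Fact p.Prime] (hp2 : p ≠ 2) {n : ℕ} (hn : 4 ≤ n) (v : Fin 3 → ZMod p)
    (h : ∀ i j, wt hn v i = wt hn v j) : v = 0 := by
  have h0 : wt hn v ⟨0, by omega⟩ = v 0 := by simp [wt]
  have h1 : wt hn v ⟨1, by omega⟩ = v 1 := by simp [wt]
  have h2 : wt hn v ⟨2, by omega⟩ = v 2 := by simp [wt]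
  have h3 : wt hn v ⟨3, by omega⟩ = -(v 0 + v 1 + v 2) := by simp [wt]
  have e1 : v 0 = v 1 := by rw [← h0, ← h1]; exact h _ _
  have e2 : v 0 = v 2 := by rw [← h0, ← h2]; exact h _ _
  have e3 : v 0 = -(v 0 + v 1 + v 2) := by rw [← h3, ← h0]; exact h _ _
  have e4 : (4 : ZMod p) * v 0 = 0 := by
    rw [← e1, ← e2] at e3
    linear_combination e3
  have h4 : (4 : ZMod p) ≠ 0 := by
    intro h
    have : ((4 : ℕ) : ZMod p) = 0 := by exact_mod_cast h
    rw [ZMod.natCast_eq_zero_iff] at this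
    have hp : p.Prime := Fact.out
    have := (Nat.prime_dvd_prime_iff_eq hp Nat.prime_two).1
      (hp.dvd_of_dvd_pow (show p ∣ 2 ^ 2 by norm_num; exact this))
    exact hp2 this
  have e5 : v 0 = 0 := (mul_eq_zero.1 e4).resolve_left h4
  funext i
  fin_cases i
  · exact e5
  · show v 1 = 0
    rw [← e1, e5]
  · show v 2 = 0
    rw [← e2, e5]

/-- A unit of prime order `p` in a finite field, for `p ∣ |F| - 1`. -/
theorem exists_unit [Finite F] [Fact p.Prime] (h : p ∣ Nat.card F - 1) :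
    ∃ u : Fˣ, u ^ p = 1 ∧ u ≠ 1 := by
  have : Fintype F := Fintype.ofFinite F
  classical
  have h1 : p ∣ Nat.card Fˣ := by
    rw [Nat.card_eq_fintype_card, Fintype.card_units]
    rwa [Nat.card_eq_fintype_card] at h
  obtain ⟨u, hu⟩ := exists_prime_orderOf_dvd_card' p h1
  refine ⟨u, hu ▸ pow_orderOf_eq_one u, ?_⟩
  rintro rfl
  rw [orderOf_one] at hu
  exact (Fact.out : p.Prime).one_lt.ne hu

end Cfsg.Agent.Omega.SQK.Torus
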