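import Cfsg.Agent.Omega.SQK.Row.ChevOdd
import Cfsg.Agent.Omega.SQK.Row.ChevTwo
import Cfsg.Agent.Omega.SQK.Row.Classical
import Cfsg.Agent.Omega.SQK.Row.E6tTwo
import Cfsg.Agent.Omega.SQK.Row.HexOdd
import Cfsg.Agent.Omega.SQK.Row.OmegaTwo
import Cfsg.Agent.Omega.SQK.Row.PSUTwo
import Cfsg.Agent.Omega.SQK.Row.RowMinusOdd
import Cfsg.Agent.Omega.SQK.Row.RowOmegaOdd
import Cfsg.Agent.Omega.SQK.Row.RowPlusOdd
import Cfsg.Agent.Omega.SQK.Row.SporFour

/-!
**The list SQK**: a known finite nonabelian simple group of `p`-rank at most 2 for all odd primes `p` is in the list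
`Frame.SQK`.
-/

set_option autoImplicit false

namespace Cfsg.Agent.Omega.SQK.All

open Cfsg

universe u

theorem rows : Frame.Rows.{u} where
  alt := Row.Classical.alt
  pslOdd := Row.Classical.pslOdd
  pslTwo := Row.Classical.pslTwo
  pspOdd := Row.Classical.pspOdd
  pspTwo := Row.Classical.pspTwo
  psuOdd := Row.Classical.psuOdd
  psuTwo := Row.PSUTwo.row
  omegaOdd := Row.RowOmegaOdd.row
  plusOdd := Row.RowPlusOdd.row
  plusTwo := Row.OmegaTwo.plus
  minusOdd := Row.RowMinusOdd.row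
  minusTwo := Row.OmegaTwo.minus
  g2Odd := Row.HexOdd.g2Odd
  chevOdd := Row.ChevOdd.chevOdd
  chevTwo := Row.ChevTwo.chevTwo
  e6tOdd := Row.ChevOdd.e6tOdd
  e6tTwo := Row.E6tTwo.e6tTwo
  d4tOdd := Row.HexOdd.d4tOdd
  ree := Row.ChevOdd.ree
  spor := Row.SporFour.row

/-- **The list SQK.** -/
theorem sqk {X : Type u} [Group X] [Finite X] (hs : IsSimpleGroup X) (hna : ¬ IsMulCommutative X)
    (hK : IsKnownSimple' X) (hp : ∀ p, p.Prime → p ≠ 2 → PRankLE p 2 X) : Frame.SQK X :=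
  Frame.sqk_of_known rows hs hna hK hp

end Cfsg.Agent.Omega.SQK.All
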