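import Mathlib
import Cfsg.Agent.Omega.SQK.ClsTool
import Cfsg.Agent.LieClassical.OrthCenter
import Cfsg.Agent.LieClassical.OmegaReindex
import Cfsg.Prelude.Def_Classical

/-!
# `m_3(PΩ^±_2m(F)) ≥ 3` for `m ≥ 4`

Three pairwise orthogonal pairs `u, v` with `Q u = Q v = ε = ± 1`, `B(u, v) = - ε` (root systems of type `A₂`); the
products of the two reflections have order 3, commute, and are inverted by a reflection.
-/

set_option autoImplicit false

namespace Cfsg.Agent.Omega.SQK.Cls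

open Cfsg Subgroup QuadraticMap
open scoped commutatorElement
open Cfsg.Agent.ClassicalGeometry.Reflection Cfsg.Agent.LieClassical.OrthCenter

variable {ι : Type} [Fintype ι] [DecidableEq ι] {F : Type*} [Field F] {Q : QuadraticForm F (ι → F)}

namespace Orth

/-- a pair of type `A₂` -/
structure Pair (Q : QuadraticForm F (ι → F)) (ε : F) (u v : ι → F) : Prop where
  ne : ε ≠ 0
  hu : Q u = ε
  hv : Q v = ε
  huv : polar Q u v = -ε
  ind : ∀ s : F, v ≠ s • u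

theorem act_refl {v : ι → F} (hv : Q v ≠ 0) (x : ι → F) :
    act Q (reflIso Q v hv) x = x - ((Q v)⁻¹ * polar (⇑Q) v x) • v := reflectionMatrix_mulVec Q v x

theorem refl_sq {v : ι → F} (hv : Q v ≠ 0) : reflIso Q v hv * reflIso Q v hv = 1 := by
  apply Subtype.ext
  apply Units.ext
  exact reflectionMatrix_mul_self Q v hv

theorem refl_comm {v w : ι → F} (hv : Q v ≠ 0) (hw : Q w ≠ 0) (h : polar (⇑Q) v w = 0) :
    Commute (reflIso Q v hv) (reflIso Q w hw) := by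
  apply act_ext
  intro x
  have h' : polar (⇑Q) w v = 0 := by rw [polar_comm]; exact h
  rw [act_mul, act_mul, act_refl hv, act_refl hw, act_refl hw, act_refl hv, QuadraticMap.polar_sub_right,
    QuadraticMap.polar_sub_right, QuadraticMap.polar_smul_right, QuadraticMap.polar_smul_right, h, h']
  simp only [smul_eq_mul, mul_zero, sub_zero]
  abel

namespace Pair

variable {ε : F} {u v : ι → F}

theorem nu (P : Pair Q ε u v) : Q u ≠ 0 := by rw [P.hu]; exact P.ne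
theorem nv (P : Pair Q ε u v) : Q v ≠ 0 := by rw [P.hv]; exact P.ne

/-- the element of order 3 -/
def x (P : Pair Q ε u v) : isometryGroup F (⇑Q) := reflIso Q u P.nu * reflIso Q v P.nv

theorem act_x (P : Pair Q ε u v) (w : ι → F) :
    act Q P.x w = w - (ε⁻¹ * polar (⇑Q) u w + ε⁻¹ * polar (⇑Q) v w) • u - (ε⁻¹ * polar (⇑Q) v w) • v := by
  have hne := P.ne
  rw [x, act_mul, act_refl P.nv, act_refl P.nu, QuadraticMap.polar_sub_right, QuadraticMap.polar_smul_right, P.hu,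
    P.hv, P.huv]
  have h1 : ε⁻¹ * (polar (⇑Q) u w - (ε⁻¹ * polar (⇑Q) v w) • -ε) = ε⁻¹ * polar (⇑Q) u w + ε⁻¹ * polar (⇑Q) v w := by
    rw [smul_eq_mul]; field_simp; ring
  rw [h1]
  abel

theorem act_x_u (P : Pair Q ε u v) : act Q P.x u = v := by
  have hne := P.ne
  rw [P.act_x, polar_self', P.hu, polar_comm (⇑Q) v u, P.huv]
  have h1 : ε⁻¹ * (2 * ε) + ε⁻¹ * -ε = 1 := by field_simp; ring
  have h2 : ε⁻¹ * -ε = -1 := by field_simp
  rw [h1, h2, one_smul, neg_smul, one_smul]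
  abel

theorem act_x_v (P : Pair Q ε u v) : act Q P.x v = -u - v := by
  have hne := P.ne
  rw [P.act_x, polar_self', P.hv, P.huv]
  have h1 : ε⁻¹ * -ε + ε⁻¹ * (2 * ε) = 1 := by field_simp; ring
  have h2 : ε⁻¹ * (2 * ε) = 2 := by field_simp
  rw [h1, h2, one_smul, two_smul]
  abel

theorem x_cube (P : Pair Q ε u v) : P.x ^ 3 = 1 := by
  apply act_ext
  intro w
  rw [pow_succ, pow_two, act_mul, act_mul, act_one, P.act_x w]
  simp only [act_sub, act_neg, act_smul, P.act_x_u, P.act_x_v, P.act_x w]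
  set α := ε⁻¹ * polar (⇑Q) u w
  set β := ε⁻¹ * polar (⇑Q) v w
  module

theorem x_mem (P : Pair Q ε u v) : P.x ∈ Omega F (⇑Q) := by
  have h1 : P.x = ⁅reflIso Q u P.nu, P.x⁆ := by
    have h2 : (reflIso Q u P.nu)⁻¹ = reflIso Q u P.nu := inv_eq_of_mul_eq_one_left (refl_sq P.nu)
    have h3 : (reflIso Q v P.nv)⁻¹ = reflIso Q v P.nv := inv_eq_of_mul_eq_one_left (refl_sq P.nv)
    have h4 : reflIso Q u P.nu * P.x * (reflIso Q u P.nu)⁻¹ = P.x⁻¹ := by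
      rw [x, mul_inv_rev, h2, h3, ← mul_assoc, refl_sq P.nu, one_mul]
    have h5 : P.x⁻¹ * P.x⁻¹ = P.x := by
      calc P.x⁻¹ * P.x⁻¹ = P.x ^ 3 * (P.x⁻¹ * P.x⁻¹) := by rw [P.x_cube, one_mul]
        _ = P.x := by group
    rw [commutatorElement_def, h4, h5]
  rw [h1]
  exact commutator_mem_commutator (mem_top _) (mem_top _)

theorem act_x_of (P : Pair Q ε u v) {w : ι → F} (h1 : polar (⇑Q) u w = 0) (h2 : polar (⇑Q) v w = 0) :
    act Q P.x w = w := by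
  rw [P.act_x, h1, h2]; simp

theorem act_pow_of (P : Pair Q ε u v) {w : ι → F} (h1 : polar (⇑Q) u w = 0) (h2 : polar (⇑Q) v w = 0) (n : ℕ) :
    act Q (P.x ^ n) w = w := by
  induction n with
  | zero => rw [pow_zero, act_one]
  | succ n ih => rw [pow_succ, act_mul, P.act_x_of h1 h2, ih]

theorem pow_eq (P : Pair Q ε u v) {a : ℕ} (ha : a < 3) {s : F} (h : act Q (P.x ^ a) u = s • u) : a = 0 := by
  interval_cases a
  · rfl
  · exfalso
    rw [pow_one, P.act_x_u] at h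
    exact P.ind s h
  · exfalso
    rw [pow_two, act_mul, P.act_x_u, P.act_x_v] at h
    apply P.ind (-(1 + s))
    calc v = -u - (-u - v) := by abel
      _ = -u - s • u := by rw [h]
      _ = (-(1 + s)) • u := by module

end Pair

/-- orthogonal pairs -/
def Perp (Q : QuadraticForm F (ι → F)) (u v u' v' : ι → F) : Prop :=
  polar Q u u' = 0 ∧ polar Q u v' = 0 ∧ polar Q v u' = 0 ∧ polar Q v v' = 0

theorem Perp.symm {u v u' v' : ι → F} (h : Perp Q u v u' v') : Perp Q u' v' u v := by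
  obtain ⟨h1, h2, h3, h4⟩ := h
  exact ⟨by rw [polar_comm]; exact h1, by rw [polar_comm]; exact h3, by rw [polar_comm]; exact h2,
    by rw [polar_comm]; exact h4⟩

theorem Perp.comm {u v u' v' : ι → F} {ε ε' : F} (h : Perp Q u v u' v') (P : Pair Q ε u v) (P' : Pair Q ε' u' v') :
    Commute P.x P'.x := by
  obtain ⟨h1, h2, h3, h4⟩ := h
  exact ((refl_comm P.nu P'.nu h1).mul_right (refl_comm P.nu P'.nv h2)).mul_left
    ((refl_comm P.nv P'.nu h3).mul_right (refl_comm P.nv P'.nv h4))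

theorem main (hQ : (polarBilin Q).Nondegenerate) (hn : 3 ≤ Fintype.card ι) (hs : ∃ u : ι → F, u ≠ 0 ∧ Q u = 0)
    {u₁ v₁ u₂ v₂ u₃ v₃ : ι → F} {ε₁ ε₂ ε₃ : F} (P₁ : Pair Q ε₁ u₁ v₁) (P₂ : Pair Q ε₂ u₂ v₂) (P₃ : Pair Q ε₃ u₃ v₃)
    (h12 : Perp Q u₁ v₁ u₂ v₂) (h13 : Perp Q u₁ v₁ u₃ v₃) (h23 : Perp Q u₂ v₂ u₃ v₃) :
    ¬ PRankLE 3 2 (POmega F (⇑Q)) := by
  refine not_prankLE_of_three (Subgroup.center (Omega F (⇑Q))) (by norm_num) (x := ⟨P₁.x, P₁.x_mem⟩)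
    (y := ⟨P₂.x, P₂.x_mem⟩) (z := ⟨P₃.x, P₃.x_mem⟩) (Subtype.ext P₁.x_cube) (Subtype.ext P₂.x_cube)
    (Subtype.ext P₃.x_cube) (Subtype.ext (h12.comm P₁ P₂)) (Subtype.ext (h13.comm P₁ P₃))
    (Subtype.ext (h23.comm P₂ P₃)) ?_
  intro a b c ha hb hc h1
  have h2 : ∃ s : F, ∀ w, act Q (P₁.x ^ a * P₂.x ^ b * P₃.x ^ c) w = s • w := by
    rcases (mem_center_omega_iff hQ hn hs _).1 h1 with h3 | h3
    · refine ⟨1, fun w => ?_⟩
      rw [one_smul, act_def]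
      have h4 : (((P₁.x ^ a * P₂.x ^ b * P₃.x ^ c : isometryGroup F (⇑Q)) : Matrix.GeneralLinearGroup ι F) :
        Matrix ι ι F) = 1 := h3
      rw [h4, Matrix.one_mulVec]
    · refine ⟨-1, fun w => ?_⟩
      rw [neg_smul, one_smul, act_def]
      have h4 : (((P₁.x ^ a * P₂.x ^ b * P₃.x ^ c : isometryGroup F (⇑Q)) : Matrix.GeneralLinearGroup ι F) :
        Matrix ι ι F) = -1 := h3
      rw [h4, Matrix.neg_mulVec, Matrix.one_mulVec]
  obtain ⟨s, hs⟩ := h2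
  have h21 := h12.symm
  have h31 := h13.symm
  have h32 := h23.symm
  refine ⟨P₁.pow_eq ha (s := s) ?_, P₂.pow_eq hb (s := s) ?_, P₃.pow_eq hc (s := s) ?_⟩
  · have h3 := hs u₁
    rwa [act_mul, act_mul, P₃.act_pow_of h31.1 h31.2.2.1, P₂.act_pow_of h21.1 h21.2.2.1] at h3
  · have h3 := hs u₂
    have h4 : P₁.x ^ a * P₂.x ^ b * P₃.x ^ c = P₂.x ^ b * P₁.x ^ a * P₃.x ^ c := by
      rw [((h12.comm P₁ P₂).pow_pow a b).eq]
    rwa [h4, act_mul, act_mul, P₃.act_pow_of h32.1 h32.2.2.1, P₁.act_pow_of h12.1 h12.2.2.1] at h3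
  · have h3 := hs u₃
    have h4 : P₁.x ^ a * P₂.x ^ b * P₃.x ^ c = P₃.x ^ c * (P₁.x ^ a * P₂.x ^ b) := by
      have h5 : Commute (P₁.x ^ a * P₂.x ^ b) (P₃.x ^ c) :=
        ((h13.comm P₁ P₃).pow_pow a c).mul_left ((h23.comm P₂ P₃).pow_pow b c)
      rw [h5.eq]
    rwa [h4, act_mul, act_mul, P₂.act_pow_of h23.1 h23.2.2.1, P₁.act_pow_of h13.1 h13.2.2.1] at h3

/-! ### plus type -/

section Plus

open Cfsg.Agent.LieClassical.OmegaReindex

/-- vectors supported on the first four hyperbolic planes -/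
def vp (k : ℕ) (x y : Fin 4 → F) : Fin (k + 4) ⊕ Fin (k + 4) → F :=
  Sum.elim (fun i => if h : (i : ℕ) < 4 then x ⟨i, h⟩ else 0) (fun i => if h : (i : ℕ) < 4 then y ⟨i, h⟩ else 0)

theorem sum_four (k : ℕ) (f : Fin 4 → F) :
    ∑ i : Fin (k + 4), (if h : (i : ℕ) < 4 then f ⟨i, h⟩ else 0) = f 0 + f 1 + f 2 + f 3 := by
  rw [Fin.sum_univ_succ, Fin.sum_univ_succ, Fin.sum_univ_succ, Fin.sum_univ_succ]
  have h4 : ∀ i : Fin k, (if h : ((i.succ.succ.succ.succ : Fin (k + 4)) : ℕ) < 4 then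
      f ⟨((i.succ.succ.succ.succ : Fin (k + 4)) : ℕ), h⟩ else 0) = 0 := by
    intro i
    rw [dif_neg]
    simp
  rw [Finset.sum_congr rfl (fun i _ => h4 i), Finset.sum_const_zero, add_zero]
  have e0 : (if h : ((0 : Fin (k + 4)) : ℕ) < 4 then f ⟨((0 : Fin (k + 4)) : ℕ), h⟩ else 0) = f 0 :=
    dif_pos (by simp)
  have e1 : (if h : ((Fin.succ 0 : Fin (k + 4)) : ℕ) < 4 then f ⟨((Fin.succ 0 : Fin (k + 4)) : ℕ), h⟩ else 0) = f 1 :=
    dif_pos (show (1 : ℕ) < 4 by decide)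
  have e2 : (if h : ((Fin.succ (Fin.succ 0) : Fin (k + 4)) : ℕ) < 4 then
      f ⟨((Fin.succ (Fin.succ 0) : Fin (k + 4)) : ℕ), h⟩ else 0) = f 2 := dif_pos (show (2 : ℕ) < 4 by decide)
  have e3 : (if h : ((Fin.succ (Fin.succ (Fin.succ 0)) : Fin (k + 4)) : ℕ) < 4 then
      f ⟨((Fin.succ (Fin.succ (Fin.succ 0)) : Fin (k + 4)) : ℕ), h⟩ else 0) = f 3 := dif_pos (show (3 : ℕ) < 4 by decide)
  rw [e0, e1, e2, e3]
  ring

theorem Q_vp (k : ℕ) (x y : Fin 4 → F) :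
    quadPlus (k + 4) F (vp k x y) = x 0 * y 0 + x 1 * y 1 + x 2 * y 2 + x 3 * y 3 := by
  rw [coe_quadPlus]
  have h1 := sum_four k (fun i => x i * y i)
  rw [← h1]
  refine Finset.sum_congr rfl fun i _ => ?_
  simp only [vp, Sum.elim_inl, Sum.elim_inr]
  split_ifs <;> simp

theorem B_vp (k : ℕ) (x y x' y' : Fin 4 → F) :
    polar (quadPlus (k + 4) F) (vp k x y) (vp k x' y') =
      (x 0 * y' 0 + x' 0 * y 0) + (x 1 * y' 1 + x' 1 * y 1) + (x 2 * y' 2 + x' 2 * y 2) + (x 3 * y' 3 + x' 3 * y 3) := by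
  rw [polar_quadPlus]
  have h1 := sum_four k (fun i => x i * y' i + x' i * y i)
  rw [← h1]
  refine Finset.sum_congr rfl fun i _ => ?_
  simp only [vp, Sum.elim_inl, Sum.elim_inr]
  split_ifs <;> simp

theorem vp_ne (k : ℕ) {x y x' y' : Fin 4 → F} {i : Fin 4} (h0 : x i = 0) (h1 : x' i = 1) (s : F) :
    vp k x' y' ≠ s • vp k x y := by
  intro h
  have hi : (i : ℕ) < k + 4 := by omega
  have h2 := congrFun h (Sum.inl ⟨i, hi⟩)
  simp only [vp, Pi.smul_apply, Sum.elim_inl, smul_eq_mul] at h2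
  rw [dif_pos (show ((⟨i, hi⟩ : Fin (k + 4)) : ℕ) < 4 from i.2),
    dif_pos (show ((⟨i, hi⟩ : Fin (k + 4)) : ℕ) < 4 from i.2)] at h2
  have h3 : x' i = s * x i := h2
  rw [h0, h1, mul_zero] at h3
  exact one_ne_zero h3

theorem plus (k : ℕ) : ¬ PRankLE 3 2 (POmega F (quadFormPlus (k + 4) F)) := by
  rw [← coe_quadPlus]
  have P1 : Pair (quadPlus (k + 4) F) (1 : F) (vp k ![1, 0, 0, 0] ![1, 0, 0, 0]) (vp k ![0, 1, 0, 0] ![-1, 1, 0, 0]) :=
    { ne := one_ne_zero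
      hu := by rw [Q_vp]; simp
      hv := by rw [Q_vp]; simp
      huv := by rw [B_vp]; simp
      ind := vp_ne k (i := 1) (by simp) (by simp) }
  have P2 : Pair (quadPlus (k + 4) F) (-1 : F) (vp k ![1, 0, 0, 0] ![-1, 1, 0, 0]) (vp k ![0, 1, 0, 0] ![0, -1, 0, 0]) :=
    { ne := neg_ne_zero.2 one_ne_zero
      hu := by rw [Q_vp]; simp
      hv := by rw [Q_vp]; simp
      huv := by rw [B_vp]; simp
      ind := vp_ne k (i := 1) (by simp) (by simp) }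
  have P3 : Pair (quadPlus (k + 4) F) (1 : F) (vp k ![0, 0, 1, 0] ![0, 0, 1, 0]) (vp k ![0, 0, 0, 1] ![0, 0, -1, 1]) :=
    { ne := one_ne_zero
      hu := by rw [Q_vp]; simp
      hv := by rw [Q_vp]; simp
      huv := by rw [B_vp]; simp
      ind := vp_ne k (i := 3) (by simp) (by simp) }
  refine main (quadPlus_nondegenerate (m := k + 4)) ?_ (quadPlus_isotropic (m := k + 4) (by omega)) P1 P2 P3 ?_ ?_ ?_
  · rw [Fintype.card_sum, Fintype.card_fin]; omega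
  · refine ⟨?_, ?_, ?_, ?_⟩ <;> rw [B_vp] <;> simp
  · refine ⟨?_, ?_, ?_, ?_⟩ <;> rw [B_vp] <;> simp
  · refine ⟨?_, ?_, ?_, ?_⟩ <;> rw [B_vp] <;> simp

end Plus

/-! ### minus type -/

section Minus

open Cfsg.Agent.LieClassical.OmegaReindex

/-- vectors supported on the first three hyperbolic planes and the first vector of the anisotropic plane -/
def vm (k : ℕ) (x y : Fin 3 → F) (z : F) : (Fin (k + 3) ⊕ Fin (k + 3)) ⊕ Fin 2 → F :=
  Sum.elim (Sum.elim (fun i => if h : (i : ℕ) < 3 then x ⟨i, h⟩ else 0)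
    (fun i => if h : (i : ℕ) < 3 then y ⟨i, h⟩ else 0)) ![z, 0]

theorem sum_three (k : ℕ) (f : Fin 3 → F) :
    ∑ i : Fin (k + 3), (if h : (i : ℕ) < 3 then f ⟨i, h⟩ else 0) = f 0 + f 1 + f 2 := by
  rw [Fin.sum_univ_succ, Fin.sum_univ_succ, Fin.sum_univ_succ]
  have h4 : ∀ i : Fin k, (if h : ((i.succ.succ.succ : Fin (k + 3)) : ℕ) < 3 then
      f ⟨((i.succ.succ.succ : Fin (k + 3)) : ℕ), h⟩ else 0) = 0 := by
    intro i
    rw [dif_neg]
    simp
  rw [Finset.sum_congr rfl (fun i _ => h4 i), Finset.sum_const_zero, add_zero]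
  have e0 : (if h : ((0 : Fin (k + 3)) : ℕ) < 3 then f ⟨((0 : Fin (k + 3)) : ℕ), h⟩ else 0) = f 0 :=
    dif_pos (by simp)
  have e1 : (if h : ((Fin.succ 0 : Fin (k + 3)) : ℕ) < 3 then f ⟨((Fin.succ 0 : Fin (k + 3)) : ℕ), h⟩ else 0) = f 1 :=
    dif_pos (show (1 : ℕ) < 3 by decide)
  have e2 : (if h : ((Fin.succ (Fin.succ 0) : Fin (k + 3)) : ℕ) < 3 then
      f ⟨((Fin.succ (Fin.succ 0) : Fin (k + 3)) : ℕ), h⟩ else 0) = f 2 := dif_pos (show (2 : ℕ) < 3 by decide)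
  rw [e0, e1, e2]
  ring

theorem Q_vm (k : ℕ) (a b : F) (x y : Fin 3 → F) (z : F) :
    quadMinus (k + 3) F a b (vm k x y z) = x 0 * y 0 + x 1 * y 1 + x 2 * y 2 + z ^ 2 := by
  rw [coe_quadMinus]
  have h1 := sum_three k (fun i => x i * y i)
  rw [← h1]
  have h2 : (∑ i : Fin (k + 3), vm k x y z (.inl (.inl i)) * vm k x y z (.inl (.inr i))) =
      ∑ i : Fin (k + 3), (if h : (i : ℕ) < 3 then x ⟨i, h⟩ * y ⟨i, h⟩ else 0) := by
    refine Finset.sum_congr rfl fun i _ => ?_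
    simp only [vm, Sum.elim_inl, Sum.elim_inr]
    split_ifs <;> simp
  have h3 : vm k x y z (.inr 0) = z := rfl
  have h4 : vm k x y z (.inr 1) = 0 := rfl
  change (∑ i : Fin (k + 3), vm k x y z (.inl (.inl i)) * vm k x y z (.inl (.inr i))) +
    (vm k x y z (.inr 0) ^ 2 + a * vm k x y z (.inr 0) * vm k x y z (.inr 1) + b * vm k x y z (.inr 1) ^ 2) = _
  rw [h2, h3, h4]
  ring

theorem B_vm (k : ℕ) (a b : F) (x y x' y' : Fin 3 → F) (z z' : F) :
    polar (quadMinus (k + 3) F a b) (vm k x y z) (vm k x' y' z') =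
      (x 0 * y' 0 + x' 0 * y 0) + (x 1 * y' 1 + x' 1 * y 1) + (x 2 * y' 2 + x' 2 * y 2) + 2 * z * z' := by
  have hadd : vm k x y z + vm k x' y' z' = vm k (x + x') (y + y') (z + z') := by
    funext i
    rcases i with (i | i) | i
    · simp only [vm, Pi.add_apply, Sum.elim_inl]
      split_ifs <;> simp
    · simp only [vm, Pi.add_apply, Sum.elim_inl, Sum.elim_inr]
      split_ifs <;> simp
    · fin_cases i
      · rfl
      · simp [vm]
  rw [polar, hadd, Q_vm, Q_vm, Q_vm]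
  simp only [Pi.add_apply]
  ring

theorem vm_ne (k : ℕ) {x y x' y' : Fin 3 → F} {z z' : F} {i : Fin 3} (h0 : x i = 0) (h1 : x' i = 1) (s : F) :
    vm k x' y' z' ≠ s • vm k x y z := by
  intro h
  have hi : (i : ℕ) < k + 3 := by omega
  have h2 := congrFun h (Sum.inl (Sum.inl ⟨i, hi⟩))
  simp only [vm, Pi.smul_apply, Sum.elim_inl, smul_eq_mul] at h2
  rw [dif_pos (show ((⟨i, hi⟩ : Fin (k + 3)) : ℕ) < 3 from i.2),
    dif_pos (show ((⟨i, hi⟩ : Fin (k + 3)) : ℕ) < 3 from i.2)] at h2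
  have h3 : x' i = s * x i := h2
  rw [h0, h1, mul_zero] at h3
  exact one_ne_zero h3

theorem vm_ne' (k : ℕ) {x y x' y' : Fin 3 → F} (s : F) : vm k x' y' 1 ≠ s • vm k x y 0 := by
  intro h
  have h2 := congrFun h (Sum.inr 0)
  have h3 : (1 : F) = s * 0 := h2
  rw [mul_zero] at h3
  exact one_ne_zero h3

theorem minus [Finite F] (k : ℕ) {a b : F}
    (hab : ∀ z₁ z₂ : F, z₁ ^ 2 + a * z₁ * z₂ + b * z₂ ^ 2 = 0 → z₁ = 0 ∧ z₂ = 0) :
    ¬ PRankLE 3 2 (POmega F (quadFormMinus (k + 3) F a b)) := by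
  rw [← coe_quadMinus]
  have P1 : Pair (quadMinus (k + 3) F a b) (1 : F) (vm k ![1, 0, 0] ![1, 0, 0] 0) (vm k ![0, 1, 0] ![-1, 1, 0] 0) :=
    { ne := one_ne_zero
      hu := by rw [Q_vm]; simp
      hv := by rw [Q_vm]; simp
      huv := by rw [B_vm]; simp
      ind := vm_ne k (i := 1) (by simp) (by simp) }
  have P2 : Pair (quadMinus (k + 3) F a b) (-1 : F) (vm k ![1, 0, 0] ![-1, 1, 0] 0) (vm k ![0, 1, 0] ![0, -1, 0] 0) :=
    { ne := neg_ne_zero.2 one_ne_zero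
      hu := by rw [Q_vm]; simp
      hv := by rw [Q_vm]; simp
      huv := by rw [B_vm]; simp
      ind := vm_ne k (i := 1) (by simp) (by simp) }
  have P3 : Pair (quadMinus (k + 3) F a b) (1 : F) (vm k ![0, 0, 1] ![0, 0, 1] 0) (vm k ![0, 0, 0] ![0, 0, -1] 1) :=
    { ne := one_ne_zero
      hu := by rw [Q_vm]; simp
      hv := by rw [Q_vm]; simp
      huv := by rw [B_vm]; simp
      ind := vm_ne' k }
  refine main (quadMinus_nondegenerate (m := k + 3) hab) ?_ (quadMinus_isotropic (m := k + 3) (by omega) a b) P1 P2 P3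
    ?_ ?_ ?_
  · rw [Fintype.card_sum, Fintype.card_sum, Fintype.card_fin]; omega
  · refine ⟨?_, ?_, ?_, ?_⟩ <;> rw [B_vm] <;> simp
  · refine ⟨?_, ?_, ?_, ?_⟩ <;> rw [B_vm] <;> simp
  · refine ⟨?_, ?_, ?_, ?_⟩ <;> rw [B_vm] <;> simp

end Minus

end Orth

theorem omegaPlus {m : ℕ} (h : 4 ≤ m) : ¬ PRankLE 3 2 (POmega F (quadFormPlus m F)) := by
  obtain ⟨k, rfl⟩ : ∃ k, m = k + 4 := ⟨m - 4, by omega⟩
  exact Orth.plus k

theorem omegaMinus [Finite F] {m : ℕ} (h : 3 ≤ m) {a b : F}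
    (hab : ∀ z₁ z₂ : F, z₁ ^ 2 + a * z₁ * z₂ + b * z₂ ^ 2 = 0 → z₁ = 0 ∧ z₂ = 0) :
    ¬ PRankLE 3 2 (POmega F (quadFormMinus m F a b)) := by
  obtain ⟨k, rfl⟩ : ∃ k, m = k + 3 := ⟨m - 3, by omega⟩
  exact Orth.minus k hab

end Cfsg.Agent.Omega.SQK.Cls
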