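import Mathlib
import Cfsg.Agent.Omega.SQK.ClsLinear
import Cfsg.Agent.LieClassical.SUBasic
import Cfsg.Prelude.Def_Classical

/-!
# `m_p(U_n(q)) ≥ 3` for `n ≥ 4`, `p ∣ q + 1` odd
-/

set_option autoImplicit false

namespace Cfsg.Agent.Omega.SQK.Cls

open Cfsg Subgroup Matrix Diag

variable {F : Type*} [Field F]

namespace Unit

theorem D_mem {n q : ℕ} (hn : 4 ≤ n) {ζ : Fˣ} (hζ : ζ ^ (q + 1) = 1) (a b c : ℤ) : D hn ζ a b c ∈ SU n F q := by
  intro u v
  change hermForm n F q (diagonal (ent hn ζ a b c) *ᵥ u) (diagonal (ent hn ζ a b c) *ᵥ v) = hermForm n F q u v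
  unfold hermForm
  refine Finset.sum_congr rfl fun i _ => ?_
  rw [mulVec_diagonal, mulVec_diagonal, mul_pow]
  have h1 : ∀ x : ℤ, ((ζ ^ x : Fˣ) : F) * ((ζ ^ x : Fˣ) : F) ^ q = 1 := by
    intro x
    rw [← pow_succ', ← Units.val_pow_eq_pow_val, ← zpow_natCast, ← _root_.zpow_mul, mul_comm x, _root_.zpow_mul,
      zpow_natCast, hζ, _root_.one_zpow, Units.val_one]
  have h2 : ent hn ζ a b c i * ent hn ζ a b c i ^ q = 1 := by
    unfold ent
    split_ifs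
    · exact h1 _
    · exact h1 _
    · exact h1 _
    · exact h1 _
    · rw [one_pow, mul_one]
  calc ent hn ζ a b c i * u i * (ent hn ζ a b c i ^ q * v i ^ q)
      = (ent hn ζ a b c i * ent hn ζ a b c i ^ q) * (u i * v i ^ q) := by ring
    _ = u i * v i ^ q := by rw [h2, one_mul]

end Unit

open Unit in
theorem psu_of [Fintype F] {n q : ℕ} (hF : Fintype.card F = q ^ 2) (hn : 4 ≤ n) {p : ℕ} (hp : p.Prime) (hp2 : p ≠ 2)
    (hd : p ∣ q + 1) : ¬ PRankLE p 2 (PSU n F q) := by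
  have : Fact p.Prime := ⟨hp⟩
  have hfac : Fintype.card F - 1 = (q + 1) * (q - 1) := by
    rw [hF]
    have := Nat.sq_sub_sq q 1
    simpa using this
  obtain ⟨ζ, hζ⟩ := exists_unit (F := F) (p := p) (by rw [hfac]; exact dvd_mul_of_dvd_left hd _)
  have hζp : ζ ^ p = 1 := by rw [← hζ]; exact pow_orderOf_eq_one ζ
  have hζq : ζ ^ (q + 1) = 1 := by
    obtain ⟨k, hk⟩ := hd
    rw [hk, pow_mul, hζp, one_pow]
  have hm := D_mem (q := q) hn hζq
  refine not_prankLE_of_three (Subgroup.center (SU n F q)) hp.one_lt (x := ⟨D hn ζ 1 0 0, hm _ _ _⟩)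
    (y := ⟨D hn ζ 0 1 0, hm _ _ _⟩) (z := ⟨D hn ζ 0 0 1, hm _ _ _⟩) (Subtype.ext (D_exp hn hζp _ _ _))
    (Subtype.ext (D_exp hn hζp _ _ _)) (Subtype.ext (D_exp hn hζp _ _ _))
    (Subtype.ext (D_comm hn ζ _ _ _ _ _ _)) (Subtype.ext (D_comm hn ζ _ _ _ _ _ _))
    (Subtype.ext (D_comm hn ζ _ _ _ _ _ _)) ?_
  intro a b c ha hb hc h1
  obtain ⟨r, hcn, hcq, hr⟩ := (LieClassical.SUBasic.mem_center_SU_iff hF (by omega) _).1 h1
  have h2 : D hn ζ a b c = (LieClassical.SUBasic.suScalar q r hcn hcq : SU n F q) := by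
    rw [← D_combine]
    exact congrArg Subtype.val hr
  refine D_scalar hn hp hp2 hζ ha hb hc (r := r) fun i => ?_
  rw [h2]
  change (diagonal fun _ => r) i i = r
  rw [diagonal_apply_eq]

end Cfsg.Agent.Omega.SQK.Cls
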